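import Mathlib
import Cfsg.Agent.Lib.MinIndexPSU.Parabolic
import Cfsg.Agent.Lib.RegularUnipotentSU52

/-!
Lib/SU3Gen42/Chain: a regular unipotent element of `SU n`: its fixed point, its flag, a good
hyperbolic pair, and conjugates of it in its cosets of the root group and of the unipotent radical.
-/

set_option autoImplicit false
set_option linter.unusedSectionVars false
set_option linter.style.haveILetI false

namespace Cfsg.Agent.Lib.SU3Gen42

open Cfsg Matrix Module Cfsg.Agent.Lib.Unitary Cfsg.Agent.Lib.AutPSU Cfsg.Agent.Lib.MinIndexPSU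
open Cfsg.Agent.Lib.RegularUnipotent

variable {F : Type*} [Field F] [Fintype F] {q : ℕ} {n : ℕ}

/-- `u - 1` as an endomorphism. -/
noncomputable def nl (u : SU n F q) : Module.End F (Fin n → F) := Matrix.toLin' (u.1.1 - 1)

theorem nl_apply (u : SU n F q) (x : Fin n → F) : nl u x = u.1.1 *ᵥ x - x := by
  simp [nl, Matrix.sub_mulVec]

theorem mulVec_eq_add (u : SU n F q) (x : Fin n → F) : u.1.1 *ᵥ x = x + nl u x := by
  rw [nl_apply]; abel

theorem pow_succ_apply' (u : SU n F q) (k : ℕ) (x : Fin n → F) :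
    (nl u ^ (k + 1)) x = nl u ((nl u ^ k) x) := by rw [pow_succ']; rfl

theorem pow_succ_apply (u : SU n F q) (k : ℕ) (x : Fin n → F) :
    (nl u ^ (k + 1)) x = (nl u ^ k) (nl u x) := by rw [pow_succ]; rfl

theorem nl_pow_mulVec (u : SU n F q) (k : ℕ) (x : Fin n → F) :
    (nl u ^ k) (u.1.1 *ᵥ x) = u.1.1 *ᵥ (nl u ^ k) x := by
  rw [mulVec_eq_add, mulVec_eq_add, map_add, ← pow_succ_apply, pow_succ_apply']

/-- The image of a power is orthogonal to its kernel. -/
theorem herm_pow_eq_zero (hF : Fintype.card F = q ^ 2) (u : SU n F q) :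
    ∀ (k : ℕ) (x y : Fin n → F), (nl u ^ k) y = 0 → hermForm n F q ((nl u ^ k) x) y = 0 := by
  intro k
  induction k with
  | zero =>
    intro x y hy
    rw [show y = 0 by simpa using hy, herm_zero_right _ hF]
  | succ k ih =>
    intro x y hy
    rw [pow_succ_apply] at hy
    have h1 := ih (u.1.1 *ᵥ x) _ hy
    rw [nl_pow_mulVec, nl_apply u y, herm_sub_right _ _ _ hF, SU_herm] at h1
    rw [pow_succ_apply', nl_apply, herm_sub_left]
    linear_combination -h1

/-- A regular unipotent element of `SU`. -/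
theorem exists_regular (hF : Fintype.card F = q ^ 2) (hn : 1 ≤ n) :
    ∃ u : SU n F q, IsRegNilp (nl u) ∧ (u.1.1 - 1) ^ n = 0 ∧ (u.1.1 - 1) ^ (n - 1) ≠ 0 := by
  obtain ⟨g, hg, hdet⟩ := RegularUnipotentSU52.exists_regUnip hF hn
  obtain ⟨u, hu⟩ : g ∈ (suToGU n F q).range := by rw [suToGU_range, MonoidHom.mem_ker, hdet]
  have hu' : RegularUnipotentMatrix.IsRegUnip (u.1.1 : Matrix (Fin n) (Fin n) F) := by
    rw [← hu] at hg
    exact hg
  obtain ⟨v, hv⟩ := RegularUnipotentMatrix.exists_cyclicVec hu' hn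
  exact ⟨u, hu'.isRegNilp, hu'.1, fun h0 => hv (by rw [h0, Matrix.zero_mulVec])⟩

/-- The data carried by the fixed vector `e` of `u` and its partner `f`. -/
structure Frame (u : SU n F q) (e f : Fin n → F) : Prop where
  hyp : Hyp q e f
  fix : u.1.1 *ᵥ e = e
  range : ∀ x, hermForm n F q x e = 0 ↔ ∃ y, nl u y = x
  top : (nl u ^ n) = 0
  cyc : (nl u ^ (n - 1)) f ≠ 0
  aniso : hermForm n F q (nl u f) (nl u f) ≠ 0

theorem exists_fixed (hF : Fintype.card F = q ^ 2) (hn : 2 ≤ n) {u : SU n F q}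
    (hu : IsRegNilp (nl u)) :
    ∃ e : Fin n → F, e ≠ 0 ∧ hermForm n F q e e = 0 ∧ u.1.1 *ᵥ e = e ∧
      ∀ x, hermForm n F q x e = 0 ↔ ∃ y, nl u y = x := by
  have hd : finrank F (Fin n → F) = n := finrank_fin_fun F
  obtain ⟨v, hv⟩ := exists_cyclic hu (by omega)
  rw [hd, LinearMap.mem_ker] at hv
  have he : nl u ((nl u ^ (n - 1)) v) = 0 := by
    rw [← pow_succ_apply', Nat.sub_add_cancel (by omega)]
    have := hu.pow_eq_zero
    rw [hd] at this
    rw [this, LinearMap.zero_apply]
  have hfix : u.1.1 *ᵥ (nl u ^ (n - 1)) v = (nl u ^ (n - 1)) v := by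
    rw [mulVec_eq_add, he, add_zero]
  have hrange : LinearMap.range (nl u) =
      perp q (Submodule.span F {(nl u ^ (n - 1)) v}) := by
    refine Submodule.eq_of_le_of_finrank_eq ?_ ?_
    · rintro _ ⟨y, rfl⟩
      rw [mem_perp_span hF]
      rintro w rfl
      have := herm_pow_eq_zero hF u 1 y ((nl u ^ (n - 1)) v) (by rw [pow_one]; exact he)
      rwa [pow_one] at this
    · have h1 := finrank_range_pow hu (k := 1) (by omega)
      have h2 := finrank_perp hF (Submodule.span F {(nl u ^ (n - 1)) v})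
      rw [finrank_span_singleton hv] at h2
      rw [pow_one, hd] at h1
      omega
  refine ⟨_, hv, ?_, hfix, fun x => ?_⟩
  · obtain ⟨k, hk⟩ : ∃ k, n - 1 = k + 1 := ⟨n - 2, by omega⟩
    have hmem : (nl u ^ (n - 1)) v ∈ LinearMap.range (nl u) := by
      rw [hk, pow_succ_apply']; exact ⟨_, rfl⟩
    rw [hrange, mem_perp_span hF] at hmem
    exact hmem _ rfl
  · rw [← LinearMap.mem_range, hrange, mem_perp_span hF]
    simp

theorem exists_frame (hF : Fintype.card F = q ^ 2) (hn : 3 ≤ n) {u : SU n F q}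
    (hu : IsRegNilp (nl u)) :
    ∃ e f : Fin n → F, Frame u e f ∧
      ((2 : F) ≠ 0 →
        hermForm n F q f (u.1.1 *ᵥ f) ^ q = hermForm n F q f (u.1.1 *ᵥ f)) := by
  have hd : finrank F (Fin n → F) = n := finrank_fin_fun F
  obtain ⟨e, he0, hee, hfix, hrange⟩ := exists_fixed hF (by omega) hu
  have htop : nl u ^ n = 0 := by have := hu.pow_eq_zero; rwa [hd] at this
  have hne : nl u e = 0 := by rw [nl_apply, hfix, sub_self]
  -- vectors not orthogonal to `e` are cyclic
  have hcyc : ∀ x, hermForm n F q x e ≠ 0 → (nl u ^ (n - 1)) x ≠ 0 := by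
    intro x hx h0
    apply hx
    have h1 : x ∈ LinearMap.ker (nl u ^ (n - 1)) := h0
    have h2 := range_pow_sub hu (k := n - 1) (by omega)
    rw [hd, show n - (n - 1) = 1 by omega, pow_one] at h2
    rw [← h2] at h1
    exact (hrange x).2 h1
  -- a normalised isotropic vector with anisotropic image
  obtain ⟨f, hf, hNf⟩ : ∃ f, Hyp q e f ∧ hermForm n F q (nl u f) (nl u f) ≠ 0 := by
    obtain ⟨f, hf⟩ := exists_hyp hF he0 hee
    by_contra hcon
    push Not at hcon
    set W := nl u f with hW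
    have hrest : ∀ z ∈ rest q e f, hermForm n F q (W + nl u z) (W + nl u z) = 0 := by
      intro z hz
      obtain ⟨hze, hzf⟩ := (mem_rest hF).1 hz
      obtain ⟨d, hd'⟩ := exists_eich_param hF z
      have hyp' : Hyp q e (f + z + d • e) := by
        refine ⟨hf.1, ?_, ?_⟩
        · simp only [herm_add_left, herm_add_right _ _ _ hF, herm_smul_left, herm_smul_right, hf.1,
            hf.2.1, hf.2.2, hf.symm' hF, hze, hzf, herm_eq_zero_symm hF hze,
            herm_eq_zero_symm hF hzf, mul_zero, mul_one, add_zero, zero_add]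
          linear_combination hd'
        · rw [herm_add_right _ _ _ hF, herm_add_right _ _ _ hF, herm_smul_right, hf.1, hf.2.2,
            herm_eq_zero_symm hF hze, mul_zero, add_zero, add_zero]
      have := hcon _ hyp'
      rwa [map_add, map_add, map_smul, hne, smul_zero, add_zero] at this
    have hW0 : hermForm n F q W W = 0 := hcon f hf
    have hlin : ∀ z ∈ rest q e f, hermForm n F q (nl u z) (nl u z) = 0 ∧
        hermForm n F q (nl u z) W = 0 := by
      intro z hz
      have key : ∀ a : F, a * hermForm n F q (nl u z) W + (a * hermForm n F q (nl u z) W) ^ q +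
          a * a ^ q * hermForm n F q (nl u z) (nl u z) = 0 := by
        intro a
        have := hrest (a • z) (Submodule.smul_mem _ a hz)
        simp only [map_smul, herm_add_left, herm_add_right _ _ _ hF, herm_smul_left,
          herm_smul_right, hW0, ← herm_conj (nl u z) W hF] at this
        rw [mul_pow]
        linear_combination this
      have hQ : hermForm n F q (nl u z) (nl u z) = 0 := by
        obtain ⟨t, ht⟩ := trace_surj hF (y := 1) (one_pow q)
        have h1 := key (t + 1)
        have h2 := key t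
        have h3 := key 1
        rw [add_mul t 1, add_pow_q hF, add_pow_q hF, one_pow] at h1
        rw [one_pow] at h3
        linear_combination h1 - h2 - h3 - hermForm n F q (nl u z) (nl u z) * ht
      exact ⟨hQ, eq_zero_of_trace_mul_eq_zero hF fun a => by
        have := key a; rwa [hQ, mul_zero, add_zero] at this⟩
    have hall : ∀ y, hermForm n F q (nl u y) (nl u y) = 0 := by
      intro y
      obtain ⟨hQ, hc⟩ := hlin _ (proj_mem hF hf y)
      have h1 : nl u y = hermForm n F q y e • W + nl u (proj q e f y) := by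
        conv_lhs => rw [eq_proj (q := q) (e := e) (f := f) y]
        rw [map_add, map_add, map_smul, map_smul, hne, smul_zero, zero_add]
      rw [h1]
      simp only [herm_add_left, herm_add_right _ _ _ hF, herm_smul_left, herm_smul_right, hW0, hQ,
        hc, herm_eq_zero_symm hF hc, mul_zero, add_zero]
    have hiso : ∀ y z, hermForm n F q (nl u y) (nl u z) = 0 := fun y z =>
      eq_zero_of_trace_mul_eq_zero hF fun c => by
        have h1 := hall (c • y + z)
        simp only [map_add, map_smul, herm_add_left, herm_add_right _ _ _ hF, herm_smul_left,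
          herm_smul_right, hall, mul_zero, add_zero, zero_add,
          ← herm_conj (nl u y) (nl u z) hF] at h1
        rw [mul_pow]
        linear_combination h1
    have hle : LinearMap.range (nl u) ≤ perp q (LinearMap.range (nl u)) := by
      rintro _ ⟨y, rfl⟩ _ ⟨z, rfl⟩
      exact hiso y z
    have h1 := finrank_range_pow hu (k := 1) (by omega)
    have h2 := Submodule.finrank_mono hle
    have h3 := finrank_perp hF (LinearMap.range (nl u))
    rw [pow_one, hd] at h1
    omega
  by_cases h2 : (2 : F) = 0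
  · exact ⟨e, f, ⟨hf, hfix, hrange, htop, hcyc f (by rw [hf.symm' hF]; exact one_ne_zero), hNf⟩,
      fun h => absurd h2 h⟩
  -- move `f` to make the pairing with its image real
  have hemem : e ∈ LinearMap.ker (nl u ^ 1) := by rw [pow_one]; exact hne
  rw [← range_pow_sub hu (show 1 ≤ _ by omega), hd] at hemem
  obtain ⟨y, hy⟩ := hemem
  set β := hermForm n F q f (u.1.1 *ᵥ f) with hβ
  set μ := β / 2
  obtain ⟨b, hb⟩ : ∃ b, b = μ • (nl u ^ (n - 2)) y := ⟨_, rfl⟩
  have hNb : nl u b = μ • e := by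
    rw [hb, map_smul, ← pow_succ_apply', show n - 2 + 1 = n - 1 by omega, hy]
  have hbe : hermForm n F q b e = 0 := by
    refine (hrange b).2 ⟨μ • (nl u ^ (n - 3)) y, ?_⟩
    rw [hb, map_smul, ← pow_succ_apply', show n - 3 + 1 = n - 2 by omega]
  obtain ⟨d, hd'⟩ := trace_surj hF
    (y := -(hermForm n F q b b + hermForm n F q b f + hermForm n F q f b)) (by
      rw [neg_pow_q hF, add_pow_q hF, add_pow_q hF, herm_self_fixed b hF, herm_conj b f hF,
        herm_conj f b hF]; ring)
  set f' := f + b + d • e with hf'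
  have hyp' : Hyp q e f' := by
    refine ⟨hf.1, ?_, ?_⟩
    · simp only [hf', herm_add_left, herm_add_right _ _ _ hF, herm_smul_left, herm_smul_right, hf.1,
        hf.2.1, hf.2.2, hf.symm' hF, hbe, herm_eq_zero_symm hF hbe, mul_zero, mul_one, add_zero,
        zero_add]
      linear_combination hd'
    · rw [hf', herm_add_right _ _ _ hF, herm_add_right _ _ _ hF, herm_smul_right, hf.1, hf.2.2,
        herm_eq_zero_symm hF hbe, mul_zero, add_zero, add_zero]
  have hNf' : nl u f' = nl u f + μ • e := by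
    rw [hf', map_add, map_add, map_smul, hne, smul_zero, add_zero, hNb]
  have hNfe : hermForm n F q (nl u f) e = 0 := (hrange _).2 ⟨f, rfl⟩
  refine ⟨e, f', ⟨hyp', hfix, hrange, htop, hcyc f' (by rw [hyp'.symm' hF]; exact one_ne_zero), ?_⟩,
    fun _ => ?_⟩
  · rw [hNf']
    simp only [herm_add_left, herm_add_right _ _ _ hF, herm_smul_left, herm_smul_right, hNfe,
      herm_eq_zero_symm hF hNfe, hf.1, mul_zero, add_zero]
    exact hNf
  have hbN : hermForm n F q b (nl u f) = -μ := by
    have h1 := SU_herm u b f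
    rw [mulVec_eq_add u b, mulVec_eq_add u f, hNb] at h1
    simp only [herm_add_left, herm_add_right _ _ _ hF, herm_smul_left, hf.2.2,
      herm_eq_zero_symm hF hNfe, mul_zero, add_zero, mul_one] at h1
    linear_combination h1
  have hval : hermForm n F q f' (u.1.1 *ᵥ f') = β + μ ^ q - μ := by
    rw [mulVec_eq_add, herm_add_right _ _ _ hF, hyp'.2.1, hNf', hf']
    simp only [herm_add_left, herm_add_right _ _ _ hF, herm_smul_left, herm_smul_right, hf.1,
      hf.symm' hF, hbe, herm_eq_zero_symm hF hNfe, hbN, mul_zero, mul_one, add_zero, zero_add]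
    rw [hβ, mulVec_eq_add u f, herm_add_right _ _ _ hF, hf.2.1]
    ring
  have h2q : (2 : F) ^ q = 2 := by
    rw [show (2 : F) = 1 + 1 by norm_num, add_pow_q hF, one_pow]
  rw [hval]
  simp only [μ, div_pow, h2q, add_pow_q hF, sub_pow_q hF, pow_q_q hF]
  field_simp
  ring

/-! ### Conjugates in cosets -/

variable {e f : Fin n → F} {u : SU n F q}

theorem Frame.nl_e (hf : Frame u e f) : nl u e = 0 := by rw [nl_apply, hf.fix, sub_self]

theorem Frame.inv_fix (hf : Frame u e f) : u⁻¹.1.1 *ᵥ e = e := by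
  conv_lhs => rw [← hf.fix, SU_inv_mulVec]

theorem Frame.exists_pre_e (hf : Frame u e f) (hF : Fintype.card F = q ^ 2) :
    ∃ y, (nl u ^ (n - 1)) y = e := by
  refine ⟨(hermForm n F q ((nl u ^ (n - 1)) f) f)⁻¹ • f, ?_⟩
  have hn := hf.hyp.two_le hF
  set w := (nl u ^ (n - 1)) f with hw
  have hw0 : nl u w = 0 := by
    rw [hw, ← pow_succ_apply', Nat.sub_add_cancel (by omega), hf.top, LinearMap.zero_apply]
  have hwp : ∀ x, hermForm n F q x e = 0 → hermForm n F q w x = 0 := by
    intro x hx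
    obtain ⟨y, rfl⟩ := (hf.range x).1 hx
    have h1 := herm_pow_eq_zero hF u 1 y w (by rw [pow_one]; exact hw0)
    rw [pow_one] at h1
    exact herm_eq_zero_symm hF h1
  have hwe : w = hermForm n F q w f • e := by
    rw [← sub_eq_zero]
    refine herm_nondeg_left hF fun x => ?_
    have hx : x = hermForm n F q x e • f + (x - hermForm n F q x e • f) := by abel
    have hxe : hermForm n F q (x - hermForm n F q x e • f) e = 0 := by
      rw [herm_sub_left, herm_smul_left, hf.hyp.symm' hF, mul_one, sub_self]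
    have h2 : hermForm n F q e (x - hermForm n F q x e • f) = 0 := herm_eq_zero_symm hF hxe
    conv_lhs => rw [hx]
    rw [herm_add_right _ _ _ hF, herm_sub_left, herm_sub_left, hwp _ hxe, herm_smul_left, herm_smul_left,
      h2, herm_smul_right, herm_smul_right, hf.hyp.2.2]
    ring
  have hw1 : hermForm n F q w f ≠ 0 := fun h0 => hf.cyc (by rw [← hw, hwe, h0, zero_smul])
  rw [map_smul, ← hw]
  conv_lhs => arg 2; rw [hwe]
  rw [inv_smul_smul₀ hw1]

/-- `u` commutes with its root group. -/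
theorem Frame.comm_RS (hf : Frame u e f) (hF : Fintype.card F = q ^ 2) {T : SU n F q}
    (hT : T ∈ RS e) : u * T * u⁻¹ = T := by
  obtain ⟨c, -, hc⟩ := (mem_RS_iff hF hf.hyp).1 hT
  refine suToGU_injective ?_
  have h1 := hc.conj (suToGU n F q u)
  rw [suToGU_val, hf.fix] at h1
  rw [map_mul, map_mul, map_inv]
  exact h1.unique hc

/-- Every element of `u (RS e)` is a conjugate of `u`. -/
theorem Frame.exists_conj_tv (hf : Frame u e f) (hF : Fintype.card F = q ^ 2) (hn : 3 ≤ n)
    {T : SU n F q} (hT : T ∈ RS e) : ∃ g : SU n F q, g * u * g⁻¹ = u * T := by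
  obtain ⟨c, hc, hTc⟩ := (mem_RS_iff hF hf.hyp).1 hT
  obtain ⟨t, ht⟩ := trace_surj hF (y := 1) (one_pow q)
  set μ := -(c * t) with hμ
  have hμc : μ ^ q - μ = c := by
    rw [hμ, neg_pow_q hF, mul_pow, show c ^ q = -c by linear_combination hc]
    linear_combination c * ht
  obtain ⟨y, hy⟩ := hf.exists_pre_e hF
  obtain ⟨z, hz⟩ : ∃ z, z = μ • (nl u ^ (n - 2)) y := ⟨_, rfl⟩
  have hNz : u.1.1 *ᵥ z = z + μ • e := by
    rw [mulVec_eq_add, hz, map_smul, ← pow_succ_apply', show n - 2 + 1 = n - 1 by omega, hy]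
  have hze : hermForm n F q z e = 0 := by
    refine (hf.range z).2 ⟨μ • (nl u ^ (n - 3)) y, ?_⟩
    rw [hz, map_smul, ← pow_succ_apply', show n - 3 + 1 = n - 2 by omega]
  obtain ⟨d, hd⟩ := exists_eich_param hF z
  obtain ⟨E, hE⟩ := exists_SU_eich hF hf.hyp.1 hze hd
  have h1 := hE.conj (suToGU n F q u)
  rw [suToGU_val, hf.fix, hNz] at h1
  -- `u E u⁻¹ = T_{μ - μ^q} E`
  have h2 : IsTvAt e (-c) (suToGU n F q (u * E * u⁻¹ * E⁻¹)) := by
    obtain ⟨A, hA, -⟩ := exists_tv hF hf.hyp.1 (c := -c) (by rw [neg_pow_q hF]; linear_combination -hc)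
    have h3 := (hA.eich hF).mul hF hE hf.hyp.1 (herm_zero_left e) hze
    rw [zero_add, herm_zero_right _ hF, sub_zero] at h3
    have h4 : IsEich e z (-c + d)
        (suToGU n F q u * suToGU n F q E * (suToGU n F q u)⁻¹) := by
      intro x
      rw [h1 x, herm_add_right _ _ _ hF, herm_smul_right, ← hμc]
      ext i
      simp
      ring
    rw [map_mul, map_mul, map_mul, map_inv, map_inv, h4.unique h3]
    simpa using hA
  have h5 : u * E * u⁻¹ * E⁻¹ = T⁻¹ := by
    refine suToGU_injective (h2.unique ?_)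
    have h6 := (exists_tc hF hf.hyp (inv_mem hT)).2
    rwa [tc_inv hF hf.hyp hT, tc_of_tv hF hf.hyp hTc] at h6
  refine ⟨E, ?_⟩
  have h7 : E = u⁻¹ * T⁻¹ * E * u := by rw [← h5]; group
  have h8 := hf.comm_RS hF hT
  calc E * u * E⁻¹ = E * u * (u⁻¹ * T⁻¹ * E * u)⁻¹ := by rw [← h7]
    _ = T * u := by group
    _ = u * T := by rw [← mul_inv_eq_iff_eq_mul.1 h8]

/-- For `z` in the image of the square, some conjugate of `u` is `u Y` with `Y` of parameter `z`. -/
theorem Frame.exists_conj_QS (hf : Frame u e f) (hF : Fintype.card F = q ^ 2) (w : Fin n → F) :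
    ∃ g Y : SU n F q, Y ∈ QS e ∧ zp e f Y = proj q e f (nl u (nl u w)) ∧ g * u * g⁻¹ = u * Y := by
  set y := -(u.1.1 *ᵥ nl u w) with hy
  have hye : hermForm n F q y e = 0 := by
    rw [hy, herm_neg_left]
    conv_lhs => arg 1; arg 5; rw [← hf.fix]
    rw [SU_herm, (hf.range _).2 ⟨w, rfl⟩, neg_zero]
  have hz := proj_mem hF hf.hyp y
  have hze := ((mem_rest hF).1 hz).1
  obtain ⟨d, hd⟩ := exists_eich_param hF (proj q e f y)
  obtain ⟨E, hE⟩ := exists_SU_eich hF hf.hyp.1 hze hd
  have hEQ : E ∈ QS e := mem_QS_of_eich hF hf.hyp.1 hze hE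
  have hzE : zp e f E = proj q e f y := zp_of_eich hF hf.hyp hz hE
  have hui : u⁻¹ ∈ NS e := PS_le_NS e hf.inv_fix
  have hC : u⁻¹ * E * u⁻¹⁻¹ ∈ QS e := NS_conj_QS hui hEQ
  refine ⟨E, u⁻¹ * E * u⁻¹⁻¹ * E⁻¹, mul_mem hC (inv_mem hEQ), ?_, by group⟩
  rw [zp_mul hF hf.hyp hC (inv_mem hEQ), zp_inv hF hf.hyp hEQ,
    zp_conj hF hf.hyp (ζ := 1) (by rw [one_smul]; exact hf.inv_fix) hEQ, hzE, one_pow, one_smul]
  have he : proj q e f e = 0 := by simpa using proj_plane hF hf.hyp (1 : F) 0
  have h1 : proj q e f y = y - hermForm n F q y f • e := by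
    rw [proj, hye, zero_smul, sub_zero]
  have h2 : u⁻¹.1.1 *ᵥ proj q e f y = u⁻¹.1.1 *ᵥ y - hermForm n F q y f • e := by
    rw [h1, Matrix.mulVec_sub, Matrix.mulVec_smul, hf.inv_fix]
  rw [h2, sub_eq_add_neg _ (hermForm n F q y f • e), proj_add, ← neg_smul, proj_smul, he, smul_zero,
    add_zero, hy, Matrix.mulVec_neg, SU_inv_mulVec, ← sub_eq_add_neg,
    nl_apply u (nl u w), sub_eq_add_neg (u.1.1 *ᵥ nl u w)]
  have hneg : ∀ v, proj q e f (-v) = -proj q e f v := fun v => by
    rw [← neg_one_smul F v, proj_smul, neg_one_smul]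
  rw [proj_add, hneg, hneg]
  abel

end Cfsg.Agent.Lib.SU3Gen42
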