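import Mathlib
import Cfsg.Agent.Lib.DicksonId.TransvectionsExc

/-!
Lib/SU3Gen42/Dickson: transvection pairs and triples generating `SL(2, K)`.
-/

set_option autoImplicit false
set_option linter.unusedSectionVars false
set_option linter.style.haveILetI false

namespace Cfsg.Agent.Lib.SU3Gen42

open Matrix Cfsg.Agent.Lib.Linear Cfsg.Agent.Lib.DicksonId
open Cfsg.Agent.Lib.DicksonFull (pslExt slExt)
open scoped Pointwise

variable {K : Type*} [Field K] [Fintype K]

local notation "SL2" => Matrix.SpecialLinearGroup (Fin 2) K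
local notation "M2" => Matrix (Fin 2) (Fin 2) K
local notation "PSL2" => Matrix.ProjectiveSpecialLinearGroup (Fin 2) K

theorem subfield_closure_eq_top {lam : K} (hall : ∀ x : K, x ≠ 0 → ∃ i : ℕ, lam ^ i = x) :
    Subfield.closure ({lam} : Set K) = ⊤ := by
  refine eq_top_iff.2 fun x _ => ?_
  rcases eq_or_ne x 0 with rfl | hx
  · exact zero_mem _
  · obtain ⟨i, rfl⟩ := hall x hx
    exact pow_mem (Subfield.subset_closure (Set.mem_singleton _)) i

/-- A lower and an upper transvection with primitive parameter generate, in odd characteristic. -/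
theorem closure_tr_odd (h2 : (2 : K) ≠ 0) {lam : K} (hlam : lam ≠ 0)
    (hord : orderOf lam = Fintype.card K - 1)
    (hall : ∀ x : K, x ≠ 0 → ∃ i : ℕ, lam ^ i = x) :
    Subgroup.closure ({trLow, trUp lam} : Set SL2) = ⊤ := by
  classical
  obtain ⟨p, hp, m, hprime, -⟩ := FiniteField.card' K
  haveI := Fact.mk hprime
  have hp2 : p ≠ 2 := by
    rintro rfl
    exact h2 (by simpa using CharP.cast_eq_zero K 2)
  have hgen := subfield_closure_eq_top hall
  have htop : trGen lam = ⊤ := by
    rcases trGen_cases hp2 hlam hgen with h | ⟨rfl, he⟩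
    · exact h
    · obtain ⟨h9, hsq⟩ := exc_of_alt_five hlam hgen he
      have h4 : lam ^ 4 = 1 := by
        rw [show lam ^ 4 = (lam ^ 2) ^ 2 by ring, hsq]; ring
      have h8 : orderOf lam = 8 := by rw [hord, h9]
      have := orderOf_dvd_of_pow_eq_one h4
      rw [h8] at this
      omega
  let w : SL2 := ⟨!![0, 1; -1, 0], by simp [Matrix.det_fin_two_of]⟩
  have hw : Matrix.trace (w : M2) = 0 := by simp [w, Matrix.trace_fin_two]
  have hord2 : orderOf ((w : SL2) : PSL2) = 2 := by
    haveI := Fact.mk Nat.prime_two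
    refine orderOf_eq_prime (DicksonFull.mk_pow_two hw) (DicksonFull.ne_one_of_trace ?_)
    rw [hw]
    intro h
    exact h2 (pow_eq_zero_iff two_ne_zero |>.1 (by linear_combination -h))
  have key : ∀ G : Subgroup SL2,
      2 ∣ Nat.card (G.map (QuotientGroup.mk' (Subgroup.center SL2))) →
      G = pre (G.map (QuotientGroup.mk' (Subgroup.center SL2))) := fun G h => eq_pre_of_map h2 h
  have hmap : (Subgroup.closure ({trLow, trUp lam} : Set SL2)).map
      (QuotientGroup.mk' (Subgroup.center SL2)) = ⊤ := (map_closure_tr lam).trans htop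
  rw [key (Subgroup.closure ({trLow, trUp lam} : Set SL2))
    (by rw [hmap]; exact hord2.symm.dvd.trans (Subgroup.orderOf_dvd_natCard (⊤ : Subgroup PSL2) (Subgroup.mem_top _))), hmap]
  ext; simp [pre]

/-- Two upper and a lower transvection generate, in characteristic two. -/
theorem closure_tr_even (h2 : (2 : K) = 0) {lam mu : K} (hlam : lam ≠ 0) (hm0 : mu ≠ 0)
    (hm1 : mu ≠ 1) (hall : ∀ x : K, x ≠ 0 → ∃ i : ℕ, lam ^ i = x) :
    Subgroup.closure ({trLow, trUp lam, trUp (lam * mu)} : Set SL2) = ⊤ := by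
  classical
  haveI : Fact (Nat.Prime 2) := ⟨Nat.prime_two⟩
  haveI : CharP K 2 := CharTwo.of_one_ne_zero_of_two_eq_zero one_ne_zero h2
  have hgen := subfield_closure_eq_top hall
  set H := Subgroup.closure ({trLow, trUp lam, trUp (lam * mu)} : Set SL2)
  set G := H.map (QuotientGroup.mk' (Subgroup.center SL2))
  have hinj : ∀ x y : SL2, (x : PSL2) = (y : PSL2) → x = y := by
    intro x y h
    obtain hc := (QuotientGroup.eq (a := x) (b := y)).1 h
    have hn : (Dickson.negI : SL2) = 1 := by
      apply Subtype.ext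
      rw [Dickson.coe_negI, Matrix.SpecialLinearGroup.coe_one]
      ext i j
      simp [CharTwo.neg_eq]
    rcases center_cases hc with h1 | h1
    · exact inv_mul_eq_one.1 h1
    · exact inv_mul_eq_one.1 (h1.trans hn)
  have hl : ((trLow : SL2) : PSL2) ∈ G :=
    Subgroup.mem_map_of_mem _ (Subgroup.subset_closure (Or.inl rfl))
  have hu : ((trUp lam : SL2) : PSL2) ∈ G :=
    Subgroup.mem_map_of_mem _ (Subgroup.subset_closure (Or.inr (Or.inl rfl)))
  have hu' : ((trUp (lam * mu) : SL2) : PSL2) ∈ G :=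
    Subgroup.mem_map_of_mem _ (Subgroup.subset_closure (Or.inr (Or.inr rfl)))
  have hne : ∀ a : K, a ≠ 0 → ((trUp a : SL2) : PSL2) ≠ 1 := by
    intro a ha h
    have := congrArg (fun X : SL2 => (X : M2) 0 1) (hinj (trUp a) 1 h)
    simp at this
    exact ha this
  have hnc : ¬ Commute ((trLow : SL2) : PSL2) ((trUp lam : SL2) : PSL2) := by
    intro h
    have h' := congrArg (fun X : SL2 => (X : M2) 0 0)
      (hinj (trLow * trUp lam) (trUp lam * trLow) (by
        rw [QuotientGroup.mk_mul, QuotientGroup.mk_mul]; exact h.eq))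
    simp [Matrix.mul_apply, Fin.sum_univ_two] at h'
    exact hlam h'
  have hdvd : (2 : ℕ) ∣ Nat.card G := by
    have h1 := Subgroup.orderOf_dvd_natCard _ hu
    rwa [orderOf_eq_prime (tr_pow_p (p := 2) lam) (hne lam hlam)] at h1
  suffices hG : G = ⊤ by
    refine eq_top_iff.2 fun x _ => ?_
    obtain ⟨y, hy, hyx⟩ := (hG ▸ Subgroup.mem_top (x : PSL2) : (x : PSL2) ∈ G)
    rw [← hinj y x hyx]
    exact hy
  rcases classify (p := 2) G with ⟨-, h⟩ | ⟨j, hj, -, ⟨d⟩⟩ | ⟨P, hP⟩ | ⟨h, -⟩ | ⟨h, -⟩ |
      ⟨h, -⟩ | ⟨k, hk, -, -, g, φ, hφ⟩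
  · exact absurd hdvd h
  · exfalso
    let a : PSL2 := ((trUp lam : SL2) : PSL2)
    let b : PSL2 := ((trUp (lam * mu) : SL2) : PSL2)
    have ha2 : a * a = 1 := by rw [← pow_two]; exact tr_pow_p (p := 2) lam
    have hb2 : b * b = 1 := by rw [← pow_two]; exact tr_pow_p (p := 2) (lam * mu)
    have hab : a * b = b * a := by
      show ((trUp lam : SL2) : PSL2) * _ = _
      rw [← QuotientGroup.mk_mul, ← QuotientGroup.mk_mul]
      congr 1
      apply Subtype.ext
      ext i j
      fin_cases i <;> fin_cases j <;> simp [Matrix.mul_apply, Fin.sum_univ_two]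
      ring
    have hab' : a ≠ b := fun h => hm1 (by
      have := congrArg (fun X : SL2 => (X : M2) 0 1) (hinj _ _ h)
      simp at this
      exact (mul_eq_left₀ hlam).1 this.symm)
    let V : Subgroup PSL2 :=
      { carrier := {1, a, b, a * b}
        one_mem' := Or.inl rfl
        mul_mem' := by
          rintro x y (rfl | rfl | rfl | rfl) (rfl | rfl | rfl | rfl) <;>
            simp only [one_mul, mul_one, Set.mem_insert_iff, Set.mem_singleton_iff] <;>
            grind
        inv_mem' := by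
          rintro x (rfl | rfl | rfl | rfl) <;>
            simp only [inv_one, _root_.mul_inv_rev, inv_eq_of_mul_eq_one_right ha2,
              inv_eq_of_mul_eq_one_right hb2, Set.mem_insert_iff, Set.mem_singleton_iff] <;>
            simp [hab] }
    have hVG : V ≤ G := by
      rintro x (rfl | rfl | rfl | rfl)
      exacts [one_mem _, hu, hu', mul_mem hu hu']
    have hc : Nat.card V = 4 := by
      rw [← SetLike.coe_sort_coe, Nat.card_coe_set_eq]
      show ({1, a, b, a * b} : Set PSL2).ncard = 4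
      have h1 : a ≠ 1 := hne lam hlam
      have h2 : b ≠ 1 := hne _ (mul_ne_zero hlam hm0)
      have h3 : a * b ≠ 1 := fun h => hab' (by
        rw [← mul_one a, ← hb2, ← mul_assoc, h, one_mul])
      rw [Set.ncard_insert_of_notMem, Set.ncard_insert_of_notMem, Set.ncard_pair] <;>
        simp [h1.symm, h2.symm, h3.symm, hab', h1, h2]
    have h4 := Subgroup.card_dvd_of_le hVG
    rw [hc, Nat.card_congr d.toEquiv, DihedralGroup.nat_card] at h4
    omega
  · exfalso
    have hmem : ∀ x ∈ G, x ^ 2 = 1 → x ∈ (P : Subgroup PSL2) := by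
      intro x hx hx2
      have hp : IsPGroup 2 (Subgroup.zpowers x) := IsPGroup.iff_orderOf.2 fun y => by
        obtain ⟨y, i, rfl⟩ := y
        have h1 : orderOf (x ^ i) ∣ 2 := orderOf_dvd_of_pow_eq_one (by
          rw [← zpow_natCast, ← _root_.zpow_mul, mul_comm, _root_.zpow_mul, zpow_natCast, hx2, _root_.one_zpow])
        obtain ⟨j, -, hj⟩ := (Nat.dvd_prime_pow Nat.prime_two).1 (h1.trans (by norm_num : 2 ∣ 2 ^ 1))
        exact ⟨j, by rw [← hj]; exact Subgroup.orderOf_mk _ _⟩
      have h1 : x ∈ Subgroup.zpowers x ⊓ Subgroup.normalizer ((P : Subgroup PSL2) : Set PSL2) :=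
        ⟨Subgroup.mem_zpowers x, hP hx⟩
      exact ((hp.inf_normalizer_sylow P).le h1).2
    set U : Sylow 2 PSL2 :=
      (sylowU_SL (F := K) 2).mapSurjective (f := QuotientGroup.mk' _) (QuotientGroup.mk'_surjective _)
    obtain ⟨h₀, rfl⟩ := MulAction.exists_smul_eq PSL2 U P
    obtain ⟨g, rfl⟩ := QuotientGroup.mk_surjective h₀
    obtain ⟨s, hs⟩ := exists_upper_lift g (hmem _ hl trLow_pow_p :
      ((trLow : SL2) : PSL2) ∈ MulAut.conj (g : PSL2) • (uSL (F := K)).range.map (QuotientGroup.mk' _))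
    obtain ⟨t, ht⟩ := exists_upper_lift g (hmem _ hu (tr_pow_p lam) :
      ((trUp lam : SL2) : PSL2) ∈ MulAut.conj (g : PSL2) • (uSL (F := K)).range.map (QuotientGroup.mk' _))
    refine hnc ?_
    rw [hs, ht]
    refine Commute.conj_iff (g : PSL2) |>.2 ?_
    exact ((Commute.all s t).map (uSL (F := K))).map (QuotientGroup.mk' _)
  · exact absurd hdvd h
  · exact absurd hdvd h
  · exact absurd hdvd (h.resolve_right (by norm_num))
  rcases hφ with e | ⟨h, -⟩
  swap
  · exact absurd rfl h
  letI : Fintype (GaloisField 2 k) := Fintype.ofFinite _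
  have hm : ((AutPSL.conjSL g (trLow * trUp lam) : SL2) : PSL2) ∈ (pslExt φ).range := by
    refine e.le ⟨((trLow * trUp lam : SL2) : PSL2), ?_, AutPSL.conjAut_mk g _⟩
    rw [QuotientGroup.mk_mul]
    exact mul_mem hl hu
  obtain ⟨w, hw⟩ := hm
  obtain ⟨W, rfl⟩ := QuotientGroup.mk_surjective w
  rw [DicksonFull.pslExt_mk] at hw
  have hs := congrArg Subtype.val (hinj _ _ hw)
  have htr : Matrix.trace ((AutPSL.conjSL g (trLow * trUp lam) : SL2) : M2) = 2 + lam := by
    rw [AutPSL.coe_conjSL, Matrix.trace_mul_comm, ← Matrix.mul_assoc, Units.inv_mul, Matrix.one_mul,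
      Matrix.SpecialLinearGroup.coe_mul, Matrix.trace_fin_two]
    simp [Matrix.mul_apply, Fin.sum_univ_two]
    ring
  have hlr : lam ∈ φ.fieldRange := by
    rw [show lam = (2 : K) + lam by rw [h2, zero_add], ← htr, ← hs, Matrix.trace_fin_two,
      DicksonFull.slExt_apply, DicksonFull.slExt_apply, ← map_add]
    exact ⟨_, rfl⟩
  have hsurj : Function.Surjective φ := fun x => by
    have h1 : x ∈ φ.fieldRange := (show (⊤ : Subfield K) ≤ φ.fieldRange by
      rw [← hgen, Subfield.closure_le]; simpa using hlr) (Subfield.mem_top x)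
    exact h1
  have hext : (pslExt φ).range = ⊤ := by
    refine eq_top_iff.2 fun x _ => ?_
    obtain ⟨X, rfl⟩ := QuotientGroup.mk_surjective x
    let e := RingEquiv.ofBijective φ ⟨φ.injective, hsurj⟩
    refine ⟨((slExt e.symm.toRingHom X : Matrix.SpecialLinearGroup (Fin 2) (GaloisField 2 k)) :
      Matrix.ProjectiveSpecialLinearGroup (Fin 2) (GaloisField 2 k)), ?_⟩
    rw [DicksonFull.pslExt_mk]
    congr 1
    apply Subtype.ext
    ext i j
    rw [DicksonFull.slExt_apply, DicksonFull.slExt_apply]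
    exact e.apply_symm_apply _
  apply Subgroup.eq_top_of_card_eq
  rw [← card_conjG g G, e, hext, Subgroup.card_top]

end Cfsg.Agent.Lib.SU3Gen42
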