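import Mathlib
import Cfsg.Agent.Lib.MinIndexPSU.Parabolic
import Cfsg.Agent.Lib.SU3Gen42.Dickson

/-!
Lib/SU3Gen42/RankOne: the group generated by transvections along a hyperbolic pair contains the whole
root groups, the rotation and the scalings.
-/

set_option autoImplicit false
set_option linter.unusedSectionVars false
set_option linter.style.haveILetI false

namespace Cfsg.Agent.Lib.SU3Gen42

open Cfsg Matrix Module Cfsg.Agent.Lib.Unitary Cfsg.Agent.Lib.AutPSU Cfsg.Agent.Lib.MinIndexPSU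
open Cfsg.Agent.Lib.DicksonId (trLow trUp)

variable {F : Type*} [Field F] [Fintype F] {q : ℕ} {n : ℕ} {e f : Fin n → F}

theorem tv_apply {v : Fin n → F} {c : F} {X : SU n F q} (hX : IsTvAt v c (suToGU n F q X))
    (x : Fin n → F) : X.1.1 *ᵥ x = x + (c * hermForm n F q x v) • v := by simpa using hX x

theorem eich_apply {v z : Fin n → F} {d : F} {X : SU n F q} (hX : IsEich v z d (suToGU n F q X))
    (x : Fin n → F) : X.1.1 *ᵥ x = x + hermForm n F q x v • z +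
      (d * hermForm n F q x v - hermForm n F q x z) • v := by simpa using hX x

theorem tv_fix {v : Fin n → F} {c : F} {X : SU n F q} (hX : IsTvAt v c (suToGU n F q X))
    {x : Fin n → F} (hx : hermForm n F q x v = 0) : X.1.1 *ᵥ x = x := by
  rw [tv_apply hX, hx, mul_zero, zero_smul, add_zero]

/-- The fixed field of `x ↦ x ^ q`. -/
def fixF (hF : Fintype.card F = q ^ 2) : Subfield F :=
  (Unitary.conj hF).eqLocusField (RingHom.id F)

theorem mem_fixF (hF : Fintype.card F = q ^ 2) {x : F} : x ∈ fixF hF ↔ x ^ q = x := Iff.rfl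

theorem card_fixF (hF : Fintype.card F = q ^ 2) : Nat.card (fixF hF) = q := card_fixed hF

/-- `A` acts on the plane of `e, f` by the matrix `M` twisted by `θ` and fixes its orthogonal. -/
def Acts (θ : F) (e f : Fin n → F) (M : Matrix (Fin 2) (Fin 2) F) (A : SU n F q) : Prop :=
  A.1.1 *ᵥ e = M 0 0 • e + (θ * M 1 0) • f ∧ A.1.1 *ᵥ f = (M 0 1 / θ) • e + M 1 1 • f ∧
    ∀ v, hermForm n F q v e = 0 → hermForm n F q v f = 0 → A.1.1 *ᵥ v = v

theorem Acts.mul {θ : F} (hθ : θ ≠ 0) {M M' : Matrix (Fin 2) (Fin 2) F} {A B : SU n F q}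
    (hA : Acts θ e f M A) (hB : Acts θ e f M' B) : Acts θ e f (M * M') (A * B) := by
  refine ⟨?_, ?_, fun v h1 h2 => ?_⟩
  · rw [SU_mul_mulVec, hB.1, Matrix.mulVec_add, Matrix.mulVec_smul, Matrix.mulVec_smul, hA.1, hA.2.1]
    ext i
    simp [Matrix.mul_apply, Fin.sum_univ_two]
    field_simp
    ring
  · rw [SU_mul_mulVec, hB.2.1, Matrix.mulVec_add, Matrix.mulVec_smul, Matrix.mulVec_smul, hA.1,
      hA.2.1]
    ext i
    simp [Matrix.mul_apply, Fin.sum_univ_two]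
    field_simp
    ring
  · rw [SU_mul_mulVec, hB.2.2 v h1 h2, hA.2.2 v h1 h2]

/-- Transvections with parameters generating `SL(2)` over the fixed field give the root group. -/
theorem RS_le_of_gen (hF : Fintype.card F = q ^ 2) (h : Hyp q e f) {K : Subgroup (SU n F q)}
    {θ : F} (hθ0 : θ ≠ 0) (hθ : θ + θ ^ q = 0)
    (hlow : ∃ X ∈ K, IsTvAt f θ (suToGU n F q X)) (S : Set (fixF hF))
    (hup : ∀ a ∈ S, ∃ X ∈ K, IsTvAt e ((a : F) / θ) (suToGU n F q X))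
    (hS : Subgroup.closure (insert (trLow : Matrix.SpecialLinearGroup (Fin 2) (fixF hF))
      (trUp '' S)) = ⊤) :
    RS e ≤ K := by
  classical
  let P : Matrix.SpecialLinearGroup (Fin 2) (fixF hF) → Prop := fun X =>
    ∃ A ∈ K, Acts θ e f (X.1.map (fun a : fixF hF => (a : F))) A
  have hmap : ∀ X Y : Matrix.SpecialLinearGroup (Fin 2) (fixF hF),
      ((X * Y).1.map (fun a : fixF hF => (a : F))) =
        X.1.map (fun a : fixF hF => (a : F)) * Y.1.map (fun a : fixF hF => (a : F)) := fun X Y =>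
    Matrix.map_mul (f := (fixF hF).subtype) (L := X.1) (M := Y.1)
  let G : Submonoid (Matrix.SpecialLinearGroup (Fin 2) (fixF hF)) :=
    { carrier := {X | P X}
      one_mem' := ⟨1, one_mem _, by simp, by simp, fun v _ _ => by simp⟩
      mul_mem' := by
        rintro X Y ⟨A, hA, hA'⟩ ⟨B, hB, hB'⟩
        exact ⟨A * B, mul_mem hA hB, by rw [hmap]; exact hA'.mul hθ0 hB'⟩ }
  let G' : Subgroup (Matrix.SpecialLinearGroup (Fin 2) (fixF hF)) :=
    { G with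
      inv_mem' := fun {X} hX => by
        rw [show X⁻¹ = X ^ (orderOf X - 1) from inv_eq_of_mul_eq_one_right (by
          rw [← pow_succ', Nat.sub_add_cancel (orderOf_pos X), pow_orderOf_eq_one])]
        exact Submonoid.pow_mem G hX _ }
  have hG : G' = ⊤ := by
    rw [eq_top_iff, ← hS, Subgroup.closure_le]
    rintro _ (rfl | ⟨a, ha, rfl⟩)
    · obtain ⟨A, hA, hT⟩ := hlow
      refine ⟨A, hA, ?_, ?_, fun v _ h2 => tv_fix hT h2⟩
      · rw [tv_apply hT, h.2.2]; simp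
      · rw [tv_fix hT h.2.1]; simp
    · obtain ⟨A, hA, hT⟩ := hup a ha
      refine ⟨A, hA, ?_, ?_, fun v h1 _ => tv_fix hT h1⟩
      · rw [tv_fix hT h.1]; simp
      · rw [tv_apply hT, h.symm' hF]; simp; abel
  intro X hX
  obtain ⟨c, hc, hXc⟩ := (mem_RS_iff hF h).1 hX
  have ha : (c * θ) ^ q = c * θ := by
    rw [mul_pow, show c ^ q = -c by linear_combination hc, show θ ^ q = -θ by linear_combination hθ]
    ring
  obtain ⟨A, hA, h1, h2, h3⟩ : P (trUp ⟨c * θ, ha⟩) := by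
    have : trUp ⟨c * θ, ha⟩ ∈ G' := by rw [hG]; exact Subgroup.mem_top _
    exact this
  suffices hAX : suToGU n F q X = suToGU n F q A from suToGU_injective hAX ▸ hA
  refine h.ext hF ?_ ?_ fun v hv1 hv2 => ?_
  · rw [suToGU_val, suToGU_val, tv_fix hXc h.1, h1]; simp
  · rw [suToGU_val, suToGU_val, tv_apply hXc, h2, h.symm' hF]
    simp [mul_div_cancel_right₀ c hθ0]
    abel
  · rw [suToGU_val, suToGU_val, tv_fix hXc hv1, h3 v hv1 hv2]

theorem exists_gen_fixF (hF : Fintype.card F = q ^ 2) :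
    ∃ g : fixF hF, g ≠ 0 ∧ orderOf g = q - 1 ∧ ∀ x : fixF hF, x ≠ 0 → ∃ i : ℕ, g ^ i = x := by
  classical
  obtain ⟨g, hg⟩ := IsCyclic.exists_generator (α := (fixF hF)ˣ)
  have hord : orderOf g = q - 1 := by
    rw [orderOf_eq_card_of_forall_mem_zpowers hg, Nat.card_units, card_fixF hF]
  refine ⟨g, g.ne_zero, by rw [orderOf_units]; exact hord, fun x hx => ?_⟩
  obtain ⟨i, hi⟩ := (isOfFinOrder_of_finite g).mem_zpowers_iff_mem_range_orderOf.1 (hg (Units.mk0 x hx))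
    |> Finset.mem_image.1
  exact ⟨i, by simpa using congrArg Units.val hi.2⟩

/-- The rotation. -/
theorem exists_rot_mem (hF : Fintype.card F = q ^ 2) (h : Hyp q e f) {K : Subgroup (SU n F q)}
    (he : RS e ≤ K) {c : F} (hc0 : c ≠ 0) (hc : c + c ^ q = 0) {B : SU n F q} (hBK : B ∈ K)
    (hB : IsTvAt f c (suToGU n F q B)) :
    ∃ r ∈ K, r.1.1 *ᵥ e = c • f ∧ r.1.1 *ᵥ f = (-c⁻¹) • e ∧
      ∀ v, hermForm n F q v e = 0 → hermForm n F q v f = 0 → r.1.1 *ᵥ v = v := by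
  have ha : -c⁻¹ + (-c⁻¹) ^ q = 0 := by
    rw [neg_pow_q hF, inv_pow, show c ^ q = -c by linear_combination hc, inv_neg]; ring
  obtain ⟨A, hA⟩ := exists_SU_tv hF h.1 ha
  have hAK : A ∈ K := he ((mem_RS_iff hF h).2 ⟨_, ha, hA⟩)
  refine ⟨A * B * A, mul_mem (mul_mem hAK hBK) hAK, ?_, ?_, fun v hv1 hv2 => ?_⟩
  · rw [SU_mul_mulVec, SU_mul_mulVec, tv_fix hA h.1, tv_apply hB, h.2.2, mul_one, tv_apply hA,
      herm_add_left, herm_smul_left, h.1, h.symm' hF, zero_add, mul_one,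
      show -c⁻¹ * c = -1 by field_simp]
    simp
  · have h1 : A.1.1 *ᵥ f = f + (-c⁻¹) • e := by rw [tv_apply hA, h.symm' hF, mul_one]
    have h2 : B.1.1 *ᵥ (f + (-c⁻¹) • e) = (-c⁻¹) • e := by
      rw [tv_apply hB, herm_add_left, herm_smul_left, h.2.1, h.2.2, zero_add, mul_one,
        show c * -c⁻¹ = -1 by field_simp]
      simp
    rw [SU_mul_mulVec, SU_mul_mulVec, h1, h2, Matrix.mulVec_smul, tv_fix hA h.1]
  · rw [SU_mul_mulVec, SU_mul_mulVec, tv_fix hA hv1, tv_fix hB hv2, tv_fix hA hv1]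

theorem inv_mulVec_of {r : SU n F q} {x y : Fin n → F} (h : r.1.1 *ᵥ x = y) :
    r⁻¹.1.1 *ᵥ y = x := by rw [← h, SU_inv_mulVec]

theorem RS_swap_le (hF : Fintype.card F = q ^ 2) (h : Hyp q e f) {K : Subgroup (SU n F q)}
    (he : RS e ≤ K) {c : F} (hc0 : c ≠ 0) (hc : c + c ^ q = 0) {B : SU n F q} (hBK : B ∈ K)
    (hB : IsTvAt f c (suToGU n F q B)) : RS f ≤ K := by
  obtain ⟨r, hr, hre, hrf, -⟩ := exists_rot_mem hF h he hc0 hc hBK hB
  intro X hX
  have h1 := inv_mulVec_of hre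
  rw [Matrix.mulVec_smul] at h1
  have h2 : r⁻¹.1.1 *ᵥ f = c⁻¹ • e := by rw [← h1, inv_smul_smul₀ hc0]
  have h3 := RS_conj r⁻¹ hX
  rw [h2, RS_smul (inv_ne_zero hc0), inv_inv] at h3
  rw [show X = r * (r⁻¹ * X * r) * r⁻¹ by group]
  exact mul_mem (mul_mem hr (he h3)) (inv_mem hr)

theorem exists_scale_mem' (hF : Fintype.card F = q ^ 2) (h : Hyp q e f) {K : Subgroup (SU n F q)}
    (he : RS e ≤ K) (hf : RS f ≤ K) {μ : F} (hμ0 : μ ≠ 0) (hμ : μ ^ q = μ) :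
    ∃ r ∈ K, r.1.1 *ᵥ e = μ • e ∧ r.1.1 *ᵥ f = μ⁻¹ • f ∧
      ∀ v, hermForm n F q v e = 0 → hermForm n F q v f = 0 → r.1.1 *ᵥ v = v := by
  obtain ⟨θ, hθ0, hθ⟩ := exists_trace_zero_ne_zero hF
  have hswap := h.swap hF
  obtain ⟨B₂, hB₂⟩ := exists_SU_tv hF h.2.1 hθ
  obtain ⟨r₂, hr₂, h2e, h2f, h2v⟩ := exists_rot_mem hF h he hθ0 hθ
    (hf ((mem_RS_iff hF hswap).2 ⟨_, hθ, hB₂⟩)) hB₂
  have hc : -(μ * θ) + (-(μ * θ)) ^ q = 0 := by
    rw [neg_pow_q hF, mul_pow, hμ]; linear_combination -μ * hθ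
  obtain ⟨B₁, hB₁⟩ := exists_SU_tv hF h.2.1 hc
  obtain ⟨r₁, hr₁, h1e, h1f, h1v⟩ := exists_rot_mem hF h he (neg_ne_zero.2 (mul_ne_zero hμ0 hθ0)) hc
    (hf ((mem_RS_iff hF hswap).2 ⟨_, hc, hB₁⟩)) hB₁
  refine ⟨r₂ * r₁, mul_mem hr₂ hr₁, ?_, ?_, fun v hv1 hv2 => ?_⟩
  · rw [SU_mul_mulVec, h1e, Matrix.mulVec_smul, h2f, smul_smul]
    congr 1; field_simp
  · rw [SU_mul_mulVec, h1f, Matrix.mulVec_smul, h2e, smul_smul]
    congr 1; field_simp
  · rw [SU_mul_mulVec, h1v v hv1 hv2, h2v v hv1 hv2]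

end Cfsg.Agent.Lib.SU3Gen42
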