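import Mathlib
import Cfsg.Agent.Lib.SU3Gen42.Chain
import Cfsg.Agent.Lib.SU3Gen42.RankOne

/-!
Lib/SU3Gen42/Fill: a subgroup containing a regular unipotent and the root groups of a suitable
hyperbolic pair is the whole `SU n`.
-/

set_option autoImplicit false
set_option linter.unusedSectionVars false
set_option linter.style.haveILetI false

namespace Cfsg.Agent.Lib.SU3Gen42

open Cfsg Matrix Module Cfsg.Agent.Lib.Unitary Cfsg.Agent.Lib.AutPSU Cfsg.Agent.Lib.MinIndexPSU
open Cfsg.Agent.Lib.RegularUnipotent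

variable {F : Type*} [Field F] [Fintype F] {q : ℕ} {n : ℕ} {e f : Fin n → F}
  {K : Subgroup (SU n F q)} {u : SU n F q}

theorem eich_smul_axis {v z : Fin n → F} {d μ : F} {A : GU n F q} (hF : Fintype.card F = q ^ 2)
    (hA : IsEich (μ • v) z d A) : IsEich v (μ ^ q • z) (μ * μ ^ q * d) A := fun x => by
  rw [hA]
  simp only [herm_smul_right, pow_q_q hF]
  ext i; simp; ring

theorem proj_e (hF : Fintype.card F = q ^ 2) (h : Hyp q e f) : proj q e f e = 0 := by
  simpa using proj_plane hF h (1 : F) 0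

theorem proj_f (hF : Fintype.card F = q ^ 2) (h : Hyp q e f) : proj q e f f = 0 := by
  simpa using proj_plane hF h (0 : F) 1

/-- On the orthogonal of `e` the projection preserves the form. -/
theorem herm_proj (hF : Fintype.card F = q ^ 2) (h : Hyp q e f) {x y : Fin n → F}
    (hx : hermForm n F q x e = 0) (hy : hermForm n F q y e = 0) :
    hermForm n F q (proj q e f x) (proj q e f y) = hermForm n F q x y := by
  simp only [proj, hx, hy, zero_smul, sub_zero, herm_sub_left, herm_sub_right _ _ _ hF,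
    herm_smul_left, herm_smul_right, h.1, herm_eq_zero_symm hF hy, mul_zero, sub_zero]

theorem eq_of_perp_e {x : Fin n → F} (hx : hermForm n F q x e = 0) :
    x = hermForm n F q x f • e + proj q e f x := by
  conv_lhs => rw [eq_proj (q := q) (e := e) (f := f) x, hx, zero_smul, add_zero]

theorem herm_mulVec_e (hu : u.1.1 *ᵥ e = e) (x : Fin n → F) :
    hermForm n F q (u.1.1 *ᵥ x) e = hermForm n F q x e := by
  conv_lhs => arg 5; rw [← hu]
  rw [SU_herm]

theorem eich_mem (hF : Fintype.card F = q ^ 2) (h : Hyp q e f) (he : RS e ≤ K) {a : Fin n → F}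
    (ha : a ∈ restPart hF h K) {d : F} {X : SU n F q} (hX : IsEich e a d (suToGU n F q X)) :
    X ∈ K := by
  have har := restPart_le hF h K ha
  have hXQ := mem_QS_of_eich hF h.1 ((mem_rest hF).1 har).1 hX
  obtain ⟨Y, hY, hYa⟩ := ha
  have h1 : X * Y⁻¹ ∈ RS e := by
    refine mem_RS_of_zp hF h (mul_mem hXQ (inv_mem hY.2)) ?_
    rw [zp_mul hF h hXQ (inv_mem hY.2), zp_inv hF h hY.2, zp_of_eich hF h har hX, hYa, add_neg_cancel]
  rw [← inv_mul_cancel_right X Y]
  exact mul_mem (he h1) hY.1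

theorem mem_restPart_conj (hF : Fintype.card F = q ^ 2) (h : Hyp q e f) {g : SU n F q} (hg : g ∈ K)
    {ζ : F} (hζ : ζ ≠ 0) (hge : g.1.1 *ᵥ e = ζ • e) {a : Fin n → F} (ha : a ∈ restPart hF h K) :
    ζ ^ q • proj q e f (g.1.1 *ᵥ a) ∈ restPart hF h K := by
  obtain ⟨Y, hY, rfl⟩ := ha
  exact ⟨g * Y * g⁻¹, ⟨K.mul_mem (K.mul_mem hg hY.1) (K.inv_mem hg),
    NS_conj_QS ⟨ζ, hζ, hge⟩ hY.2⟩, zp_conj hF h hge hY.2⟩

theorem mem_restPart_u (hF : Fintype.card F = q ^ 2) (h : Hyp q e f) (huK : u ∈ K)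
    (hu : u.1.1 *ᵥ e = e) {a : Fin n → F} (ha : a ∈ restPart hF h K) :
    proj q e f (u.1.1 *ᵥ a) ∈ restPart hF h K := by
  have := mem_restPart_conj hF h huK one_ne_zero (by rw [one_smul, hu]) ha
  rwa [one_pow, one_smul] at this

/-- Eichler transformations along `f`. -/
theorem eichF_mem (hF : Fintype.card F = q ^ 2) (h : Hyp q e f) (he : RS e ≤ K) (hf : RS f ≤ K)
    {c : F} (hc0 : c ≠ 0) (hc : c + c ^ q = 0) {a : Fin n → F} (ha : a ∈ restPart hF h K) {d : F}
    {X : SU n F q} (hX : IsEich f (c ^ q • a) d (suToGU n F q X)) : X ∈ K := by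
  obtain ⟨B, hB⟩ := exists_SU_tv hF h.2.1 hc
  obtain ⟨r, hr, hre, -, hrv⟩ := exists_rot_mem hF h he hc0 hc
    (hf ((mem_RS_iff hF (h.swap hF)).2 ⟨_, hc, hB⟩)) hB
  have har := restPart_le hF h K ha
  obtain ⟨hae, haf⟩ := (mem_rest hF).1 har
  have h1 := inv_mulVec_of hre
  rw [Matrix.mulVec_smul] at h1
  have h2 : r⁻¹.1.1 *ᵥ f = c⁻¹ • e := by rw [← h1, inv_smul_smul₀ hc0]
  have h3 : r⁻¹.1.1 *ᵥ (c ^ q • a) = c ^ q • a := by
    rw [Matrix.mulVec_smul, inv_mulVec_of (hrv a hae haf)]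
  have h4 := hX.conj (suToGU n F q r⁻¹)
  rw [suToGU_val, h2, h3, ← map_inv, ← map_mul, ← map_mul, inv_inv] at h4
  have h5 := eich_smul_axis hF h4
  rw [smul_smul, ← mul_pow, inv_mul_cancel₀ hc0, one_pow, one_smul] at h5
  rw [show X = r * (r⁻¹ * X * r) * r⁻¹ by group]
  exact mul_mem (mul_mem hr (eich_mem hF h he ha h5)) (inv_mem hr)

theorem exists_fixed_ne (hF : Fintype.card F = q ^ 2) (hq : 3 ≤ q) (a b : F) :
    ∃ r : F, r ^ q = r ∧ r ≠ a ∧ r ≠ b := by
  classical
  by_contra hall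
  push Not at hall
  have hc := card_fixed hF
  rw [Nat.card_eq_fintype_card, Fintype.card_subtype] at hc
  have hle := Finset.card_le_card (s := Finset.univ.filter fun x : F => x ^ q = x) (t := {a, b})
    (fun x hx => by
      simp only [Finset.mem_filter, Finset.mem_univ, true_and] at hx
      simp only [Finset.mem_insert, Finset.mem_singleton]
      by_cases hxa : x = a
      · exact Or.inl hxa
      · exact Or.inr (hall x hx hxa))
  have := hle.trans (Finset.card_le_two)
  omega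

/-- Two elements with ratio outside the fixed field span over it. -/
theorem exists_comb (hF : Fintype.card F = q ^ 2) {k : F} (hk : k ^ q ≠ k) (y : F) :
    ∃ r s : F, r ^ q = r ∧ s ^ q = s ∧ y = r + s * k := by
  have hk' : k - k ^ q ≠ 0 := sub_ne_zero.2 (Ne.symm hk)
  set s := (y - y ^ q) / (k - k ^ q) with hs
  have hsq : s ^ q = s := by
    rw [hs, div_pow, sub_pow_q hF, sub_pow_q hF, pow_q_q hF, pow_q_q hF,
      ← neg_sub y, ← neg_sub k, neg_div_neg_eq]
  refine ⟨y - s * k, s, ?_, hsq, by ring⟩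
  rw [sub_pow_q hF, mul_pow, hsq]
  have : s * (k - k ^ q) = y - y ^ q := div_mul_cancel₀ _ hk'
  linear_combination this

theorem scal_mem (hF : Fintype.card F = q ^ 2) (h : Hyp q e f) (he : RS e ≤ K) (hf : RS f ≤ K)
    {μ : F} (hμ : μ ^ q = μ) {a : Fin n → F} (ha : a ∈ restPart hF h K) :
    μ • a ∈ restPart hF h K := by
  rcases eq_or_ne μ 0 with rfl | hμ0
  · rw [zero_smul]; exact zero_mem _
  obtain ⟨r, hr, hre, -, hrv⟩ := exists_scale_mem' hF h he hf hμ0 hμ
  have har := restPart_le hF h K ha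
  have := mem_restPart_conj hF h hr hμ0 hre ha
  rwa [hμ, hrv a ((mem_rest hF).1 har).1 ((mem_rest hF).1 har).2, proj_of_mem hF har] at this

/-- A root group in `K` through a point off the orthogonal of `e` gives its rest part. -/
theorem proj_mem_of_root (hF : Fintype.card F = q ^ 2) (hq : 3 ≤ q) (h : Hyp q e f)
    (he : RS e ≤ K) (hf : RS f ≤ K) {v : Fin n → F} (hv : hermForm n F q v v = 0)
    (hve : hermForm n F q v e = 1) (hvK : RS v ≤ K) : proj q e f v ∈ restPart hF h K := by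
  obtain ⟨b, hb⟩ : ∃ b, b = proj q e f v := ⟨_, rfl⟩
  set d := hermForm n F q v f with hd
  have hv' : v = d • e + f + b := by
    conv_lhs => rw [eq_proj (q := q) (e := e) (f := f) v, hve, one_smul, ← hb, ← hd]
  have hbr : b ∈ rest q e f := hb ▸ proj_mem hF h v
  obtain ⟨hbe, hbf⟩ := (mem_rest hF).1 hbr
  have hdd : d + d ^ q + hermForm n F q b b = 0 := by
    have h1 := hv
    rw [hv'] at h1
    simp only [herm_add_left, herm_add_right _ _ _ hF, herm_smul_left, herm_smul_right, h.1, h.2.1,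
      h.2.2, h.symm' hF, hbe, hbf, herm_eq_zero_symm hF hbe, herm_eq_zero_symm hF hbf, mul_zero,
      mul_one, add_zero, zero_add] at h1
    linear_combination h1
  obtain ⟨E, hE⟩ := exists_SU_eich hF h.1 hbe hdd
  have hEQ := mem_QS_of_eich hF h.1 hbe hE
  have hEf : E.1.1 *ᵥ f = v := by
    rw [eich_apply hE, h.symm' hF, herm_eq_zero_symm hF hbf, hv']
    simp
    abel
  let K' := K ⊓ K.comap (MulAut.conj E).toMonoidHom
  have he' : RS e ≤ K' := fun X hX => ⟨he hX, he (by
    have := RS_conj E hX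
    rw [hEQ.1] at this
    exact this)⟩
  have hf' : RS f ≤ K' := fun X hX => ⟨hf hX, hvK (by
    have := RS_conj E hX
    rw [hEf] at this
    exact this)⟩
  obtain ⟨μ, hμ, hμ0, hμ1⟩ := exists_fixed_ne hF hq 0 1
  obtain ⟨τ, hτ, hτe, -, hτv⟩ := exists_scale_mem' hF h he' hf' hμ0 hμ
  have hK : E * τ * E⁻¹ * τ⁻¹ ∈ K := mul_mem hτ.2 (inv_mem hτ.1)
  have hC : τ * E⁻¹ * τ⁻¹ ∈ QS e := NS_conj_QS ⟨μ, hμ0, hτe⟩ (inv_mem hEQ)
  have h1 : (1 - μ) • b ∈ restPart hF h K := by
    refine ⟨E * (τ * E⁻¹ * τ⁻¹), ⟨by simpa [mul_assoc] using hK, mul_mem hEQ hC⟩, ?_⟩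
    rw [zp_mul hF h hEQ hC, zp_conj hF h hτe (inv_mem hEQ), zp_inv hF h hEQ,
      zp_of_eich hF h hbr hE, hμ, Matrix.mulVec_neg, hτv b hbe hbf, ← neg_one_smul F b, proj_smul,
      proj_of_mem hF hbr, smul_smul, sub_smul, one_smul, mul_neg_one, neg_smul, sub_eq_add_neg]
  have h2 := scal_mem hF h he hf (μ := (1 - μ)⁻¹)
    (by rw [inv_pow, sub_pow_q hF, one_pow, hμ]) h1
  rw [inv_smul_smul₀ (sub_ne_zero.2 (Ne.symm hμ1)), hb] at h2
  exact h2

theorem line_mem_of_aniso (hF : Fintype.card F = q ^ 2) (hq : 3 ≤ q) (h : Hyp q e f)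
    (he : RS e ≤ K) (hf : RS f ≤ K) {a : Fin n → F} (ha : a ∈ restPart hF h K)
    (haa : hermForm n F q a a ≠ 0) (x : F) : x • a ∈ restPart hF h K := by
  obtain ⟨θ, hθ0, hθ⟩ := exists_trace_zero_ne_zero hF
  have har := restPart_le hF h K ha
  obtain ⟨hae, haf⟩ := (mem_rest hF).1 har
  set a' := θ ^ q • a with ha'
  have haa' : hermForm n F q a' a' ≠ 0 := by
    rw [ha', herm_smul_left, herm_smul_right]
    exact mul_ne_zero (pow_ne_zero _ hθ0) (mul_ne_zero (pow_ne_zero _ (pow_ne_zero _ hθ0)) haa)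
  have hae' : hermForm n F q a' e = 0 := by rw [ha', herm_smul_left, hae, mul_zero]
  have haf' : hermForm n F q a' f = 0 := by rw [ha', herm_smul_left, haf, mul_zero]
  have key : ∀ d : F, d + d ^ q + hermForm n F q a' a' = 0 →
      d ≠ 0 ∧ (d⁻¹ * θ ^ q) • a ∈ restPart hF h K := by
    intro d hd
    have hd0 : d ≠ 0 := fun h0 => haa' (by simpa [h0, zero_pow_q hF] using hd)
    refine ⟨hd0, ?_⟩
    obtain ⟨X, hX⟩ := exists_SU_eich hF h.2.1 haf' hd
    have hXK := eichF_mem hF h he hf hθ0 hθ ha hX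
    have hXe : X.1.1 *ᵥ e = e + a' + d • f := by
      rw [eich_apply hX, h.2.2, herm_eq_zero_symm hF hae']; simp
    have hXer : RS (X.1.1 *ᵥ e) ≤ K := fun Y hY => by
      have h1 := RS_conj X⁻¹ hY
      rw [SU_inv_mulVec, inv_inv] at h1
      rw [show Y = X * (X⁻¹ * Y * X) * X⁻¹ by group]
      exact mul_mem (mul_mem hXK (he h1)) (inv_mem hXK)
    have hiso : hermForm n F q (d⁻¹ • (X.1.1 *ᵥ e)) (d⁻¹ • (X.1.1 *ᵥ e)) = 0 := by
      rw [herm_smul_left, herm_smul_right, SU_herm, h.1, mul_zero, mul_zero]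
    have hone : hermForm n F q (d⁻¹ • (X.1.1 *ᵥ e)) e = 1 := by
      rw [herm_smul_left, hXe]
      simp only [herm_add_left, herm_smul_left, h.1, hae', h.symm' hF, zero_add, mul_one]
      exact inv_mul_cancel₀ hd0
    have h2 := proj_mem_of_root hF hq h he hf hiso hone (by rwa [RS_smul (inv_ne_zero hd0)])
    rw [proj_smul, hXe, ha'] at h2
    simp only [proj_add, proj_smul, proj_e hF h, proj_f hF h, smul_zero, zero_add, add_zero,
      proj_of_mem hF har, smul_smul] at h2
    exact h2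
  obtain ⟨d, hd⟩ := exists_eich_param hF a'
  have hd' : d + θ + (d + θ) ^ q + hermForm n F q a' a' = 0 := by
    rw [add_pow_q hF]; linear_combination hd + hθ
  obtain ⟨hd0, h1⟩ := key d hd
  obtain ⟨hd0', h2⟩ := key (d + θ) hd'
  set p := (d + θ)⁻¹ * θ ^ q
  have hp : p ≠ 0 := mul_ne_zero (inv_ne_zero hd0') (pow_ne_zero _ hθ0)
  have hk : ((d + θ) / d) ^ q ≠ (d + θ) / d := by
    intro hk
    rw [div_pow, div_eq_div_iff (pow_ne_zero _ hd0) hd0, add_pow_q hF] at hk
    have h3 : θ * (d + d ^ q) = 0 := by linear_combination d * hθ - hk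
    rcases mul_eq_zero.1 h3 with h4 | h4
    · exact hθ0 h4
    · exact haa' (by linear_combination hd - h4)
  obtain ⟨r, s, hr, hs, hy⟩ := exists_comb hF hk (x / p)
  have hx : x = r * p + s * (d⁻¹ * θ ^ q) := by
    rw [← div_mul_cancel₀ x hp, hy]
    simp only [p]
    field_simp
  rw [hx, add_smul, ← smul_smul, ← smul_smul s]
  exact add_mem (scal_mem hF h he hf hr h2) (scal_mem hF h he hf hs h1)

/-- A stable subspace of the rest containing the image of `f` is the rest. -/
theorem stable_eq_rest (hF : Fintype.card F = q ^ 2) (hu : IsRegNilp (nl u)) (hfr : Frame u e f)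
    (S : Submodule F (Fin n → F)) (hle : S ≤ rest q e f)
    (hst : ∀ a ∈ S, proj q e f (u.1.1 *ᵥ a) ∈ S) (hseed : proj q e f (nl u f) ∈ S) :
    rest q e f ≤ S := by
  have hd : finrank F (Fin n → F) = n := finrank_fin_fun F
  set M := Submodule.span F {e} ⊔ S
  have hMperp : ∀ x, hermForm n F q x e = 0 → proj q e f x ∈ S → x ∈ M := by
    intro x hx hp
    rw [eq_of_perp_e (f := f) hx]
    exact Submodule.add_mem_sup (Submodule.smul_mem _ _ (Submodule.mem_span_singleton_self e)) hp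
  have hstab : ∀ x ∈ M, nl u x ∈ M := by
    intro x hx
    obtain ⟨y, hy, a, ha, rfl⟩ := Submodule.mem_sup.1 hx
    obtain ⟨c, rfl⟩ := Submodule.mem_span_singleton.1 hy
    rw [map_add, map_smul, hfr.nl_e, smul_zero, zero_add, nl_apply]
    refine M.sub_mem (hMperp _ ?_ (hst a ha)) (Submodule.mem_sup_right ha)
    rw [herm_mulVec_e hfr.fix, ((mem_rest hF).1 (hle ha)).1]
  have hNf : nl u f ∈ M := hMperp _ ((hfr.range _).2 ⟨f, rfl⟩) hseed
  have hM := eq_ker_pow hu M hstab
  have hk : n - 1 ≤ finrank F M := by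
    by_contra hlt
    apply hfr.cyc
    have h1 : nl u f ∈ LinearMap.ker (nl u ^ finrank F M) := hM ▸ hNf
    rw [LinearMap.mem_ker, ← pow_succ_apply] at h1
    rw [show n - 1 = (n - 1 - (finrank F M + 1)) + (finrank F M + 1) by omega, pow_add,
      Module.End.mul_apply, h1, map_zero]
  intro x hx
  obtain ⟨y, rfl⟩ := (hfr.range x).1 ((mem_rest hF).1 hx).1
  have hmem : nl u y ∈ M := by
    rw [hM, LinearMap.mem_ker, ← pow_succ_apply]
    rw [show finrank F M + 1 = (finrank F M + 1 - n) + n by omega, pow_add, hfr.top, mul_zero,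
      LinearMap.zero_apply]
  obtain ⟨z, hz, a, ha, hza⟩ := Submodule.mem_sup.1 hmem
  obtain ⟨c, rfl⟩ := Submodule.mem_span_singleton.1 hz
  rw [← proj_of_mem hF hx, ← hza, proj_add, proj_smul, proj_e hF hfr.hyp, smul_zero, zero_add,
    proj_of_mem hF (hle ha)]
  exact ha

/-- For `q ≥ 3` the rest part is everything. -/
theorem rest_mem_three (hF : Fintype.card F = q ^ 2) (hq : 3 ≤ q) (hu : IsRegNilp (nl u))
    (hfr : Frame u e f) (huK : u ∈ K) (he : RS e ≤ K) (hf : RS f ≤ K) :
    ∀ x ∈ rest q e f, x ∈ restPart hF hfr.hyp K := by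
  have h := hfr.hyp
  obtain ⟨b, hb⟩ : ∃ b, b = proj q e f (nl u f) := ⟨_, rfl⟩
  have hNe : hermForm n F q (nl u f) e = 0 := (hfr.range _).2 ⟨f, rfl⟩
  have hbA : b ∈ restPart hF h K := by
    have hufe : hermForm n F q (u.1.1 *ᵥ f) e = 1 := by rw [herm_mulVec_e hfr.fix, h.symm' hF]
    have := proj_mem_of_root hF hq h he hf (v := u.1.1 *ᵥ f) (by rw [SU_herm, h.2.1]) hufe
      (fun Y hY => by
        have h1 := RS_conj u⁻¹ hY
        rw [SU_inv_mulVec, inv_inv] at h1
        rw [show Y = u * (u⁻¹ * Y * u) * u⁻¹ by group]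
        exact mul_mem (mul_mem huK (hf h1)) (inv_mem huK))
    rwa [mulVec_eq_add, proj_add, proj_f hF h, zero_add, ← hb] at this
  have hbb : hermForm n F q b b ≠ 0 := by
    rw [hb, herm_proj hF h hNe hNe]
    exact hfr.aniso
  have hline : ∀ a ∈ restPart hF h K, ∀ x : F, x • a ∈ restPart hF h K := by
    intro a ha x
    by_cases haa : hermForm n F q a a = 0
    · obtain ⟨r, hr, hr0, hr1⟩ := exists_fixed_ne hF hq 0
        (-(hermForm n F q a b + hermForm n F q b a) / hermForm n F q b b)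
      have hrb := scal_mem hF h he hf hr hbA
      have hsum : hermForm n F q (a + r • b) (a + r • b) ≠ 0 := by
        intro h0
        simp only [herm_add_left, herm_add_right _ _ _ hF, herm_smul_left, herm_smul_right, haa,
          hr] at h0
        have h1 : r * (r * hermForm n F q b b + (hermForm n F q a b + hermForm n F q b a)) = 0 := by
          linear_combination h0
        rcases mul_eq_zero.1 h1 with h2 | h2
        · exact hr0 h2
        · exact hr1 (by rw [eq_div_iff hbb]; linear_combination h2)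
      have h1 := line_mem_of_aniso hF hq h he hf (add_mem ha hrb) hsum x
      have h2 := line_mem_of_aniso hF hq h he hf hbA hbb (x * r)
      have := sub_mem h1 h2
      rwa [smul_add, smul_smul, add_sub_cancel_right] at this
    · exact line_mem_of_aniso hF hq h he hf ha haa x
  let S : Submodule F (Fin n → F) :=
    { carrier := restPart hF h K
      zero_mem' := zero_mem _
      add_mem' := fun hx hy => add_mem hx hy
      smul_mem' := fun x a ha => hline a ha x }
  exact stable_eq_rest hF hu hfr S (fun a ha => restPart_le hF h K ha)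
    (fun a ha => mem_restPart_u hF h huK hfr.fix ha) (hb ▸ hbA)

/-- The map scaling `e, f, a` and fixing their orthogonal. -/
def IsPlaneScale (q : ℕ) (e f a : Fin n → F) (d : F) (Z : SU n F q) : Prop :=
  ∀ x, Z.1.1 *ᵥ x = x + d •
    (hermForm n F q x f • e + hermForm n F q x e • f + hermForm n F q x a • a)

theorem exists_planeScale (hF : Fintype.card F = q ^ 2) (h2 : (2 : F) = 0) (hq : q = 2)
    (h : Hyp q e f) (he : RS e ≤ K) (hf : RS f ≤ K) {a : Fin n → F} (ha : a ∈ restPart hF h K)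
    (haa : hermForm n F q a a = 1) :
    ∃ d : F, d ^ 2 + d + 1 = 0 ∧ ∃ Z ∈ K, IsPlaneScale q e f a d Z := by
  obtain ⟨d, hd⟩ := exists_eich_param hF a
  have hd' : d ^ 2 + d + 1 = 0 := by
    rw [haa, hq] at hd
    linear_combination hd
  refine ⟨d, hd', ?_⟩
  have har := restPart_le hF h K ha
  obtain ⟨hae, haf⟩ := (mem_rest hF).1 har
  obtain ⟨hea, hfa⟩ := rest_swap_herm hF har
  obtain ⟨E, hE⟩ := exists_SU_eich hF h.1 hae hd
  obtain ⟨G, hG⟩ := exists_SU_eich hF h.2.1 haf hd
  have hEK := eich_mem hF h he ha hE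
  have h11 : (1 : F) + 1 ^ q = 0 := by rw [one_pow]; linear_combination h2
  have hGK : G ∈ K := eichF_mem hF h he hf one_ne_zero h11 ha (by rw [one_pow, one_smul]; exact hG)
  obtain ⟨P, hP⟩ : ∃ P, P = E * G := ⟨_, rfl⟩
  have hPK : P ∈ K := hP ▸ mul_mem hEK hGK
  have hEe : E.1.1 *ᵥ e = e := by rw [eich_apply hE, h.1, hea]; simp
  have hEf : E.1.1 *ᵥ f = f + a + d • e := by rw [eich_apply hE, h.symm' hF, hfa]; simp
  have hEa : E.1.1 *ᵥ a = a - e := by
    rw [eich_apply hE, hae, haa]; simp [sub_eq_add_neg]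
  have hGe : G.1.1 *ᵥ e = e + a + d • f := by rw [eich_apply hG, h.2.2, hea]; simp
  have hGf : G.1.1 *ᵥ f = f := by rw [eich_apply hG, h.2.1, hfa]; simp
  have hGa : G.1.1 *ᵥ a = a - f := by
    rw [eich_apply hG, haf, haa]; simp [sub_eq_add_neg]
  have hPe : P.1.1 *ᵥ e = (d * d) • e + d • f + (1 + d) • a := by
    rw [hP, SU_mul_mulVec, hGe, Matrix.mulVec_add, Matrix.mulVec_add, Matrix.mulVec_smul, hEe, hEa,
      hEf]
    ext i; simp; ring
  have hPf : P.1.1 *ᵥ f = d • e + f + a := by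
    rw [hP, SU_mul_mulVec, hGf, hEf]; abel
  have hPa : P.1.1 *ᵥ a = (-(1 + d)) • e - f := by
    rw [hP, SU_mul_mulVec, hGa, Matrix.mulVec_sub, hEa, hEf]
    ext i; simp; ring
  have hPr : ∀ r, hermForm n F q r e = 0 → hermForm n F q r f = 0 → hermForm n F q r a = 0 →
      P.1.1 *ᵥ r = r := by
    intro r h1 h3 h4
    rw [hP, SU_mul_mulVec, eich_apply hG r, h3, h4]
    simp only [zero_smul, mul_zero, sub_zero, add_zero]
    rw [eich_apply hE r, h1, h4]
    simp
  refine ⟨P * P, mul_mem hPK hPK, fun x => ?_⟩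
  obtain ⟨r, hr⟩ : ∃ r, r = x - hermForm n F q x f • e - hermForm n F q x e • f -
      hermForm n F q x a • a := ⟨_, rfl⟩
  have hre : hermForm n F q r e = 0 := by
    simp [hr, herm_sub_left, herm_smul_left, h.1, h.symm' hF, hae]
  have hrf : hermForm n F q r f = 0 := by
    simp [hr, herm_sub_left, herm_smul_left, h.2.1, h.2.2, haf]
  have hra : hermForm n F q r a = 0 := by
    simp [hr, herm_sub_left, herm_smul_left, hea, hfa, haa]
  have hx : x = r + hermForm n F q x f • e + hermForm n F q x e • f + hermForm n F q x a • a := by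
    rw [hr]; abel
  conv_lhs => rw [hx]
  conv_rhs => arg 1; rw [hx]
  simp only [SU_mul_mulVec, Matrix.mulVec_add, Matrix.mulVec_smul, Matrix.mulVec_sub, hPe, hPf, hPa,
    hPr r hre hrf hra, neg_smul, Matrix.mulVec_neg]
  ext i
  simp
  linear_combination
    hermForm n F q x f * (e i * ((d ^ 2 + d) * hd' + (-d ^ 3 - d ^ 2 - 2 * d - 1) * h2) +
      f i * ((d - 1) * hd') + a i * (d * hd')) +
    hermForm n F q x e * (e i * ((d - 1) * hd') + f i * (hd' - (1 + d) * h2) + a i * hd') +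
    hermForm n F q x a * (e i * (-d * hd') + f i * (-hd') + a i * (-hd' - (d + 1) * h2))

theorem line_mem_two (hF : Fintype.card F = q ^ 2) (h2 : (2 : F) = 0) (hq : q = 2) (h : Hyp q e f)
    (he : RS e ≤ K) (hf : RS f ≤ K) {a : Fin n → F} (ha : a ∈ restPart hF h K)
    (haa : hermForm n F q a a = 1) {b : Fin n → F} (hb : b ∈ restPart hF h K) (x : F) :
    x • (b - hermForm n F q b a • a) ∈ restPart hF h K := by
  obtain ⟨d, hd, Z, hZK, hZ⟩ := exists_planeScale hF h2 hq h he hf ha haa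
  have har := restPart_le hF h K ha
  obtain ⟨hea, hfa⟩ := rest_swap_herm hF har
  have hζ : 1 + d ≠ 0 := by
    intro h0
    exact one_ne_zero (α := F) (by linear_combination hd - d * h0)
  have hZe : Z.1.1 *ᵥ e = (1 + d) • e := by
    rw [hZ, h.2.2, h.1, hea]; simp [add_smul]
  have hζq : (1 + d) ^ q = d := by rw [hq]; linear_combination hd
  have step : ∀ b ∈ restPart hF h K,
      (d - 1) • (b - hermForm n F q b a • a) ∈ restPart hF h K := by
    intro b hb
    have hbr := restPart_le hF h K hb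
    obtain ⟨hbe, hbf⟩ := (mem_rest hF).1 hbr
    have h1 := mem_restPart_conj hF h hZK hζ hZe hb
    have hZb : Z.1.1 *ᵥ b = b + (d * hermForm n F q b a) • a := by
      rw [hZ, hbe, hbf]; simp [smul_smul]
    rw [hZb, proj_of_mem hF (Submodule.add_mem _ hbr (Submodule.smul_mem _ _ har))] at h1
    rw [hζq] at h1
    convert sub_mem h1 hb using 1
    ext i
    simp
    linear_combination hermForm n F q b a * a i * (-hd + h2)
  have har' : hermForm n F q a a = 1 := haa
  set w := b - hermForm n F q b a • a with hw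
  have hwa : hermForm n F q ((d - 1) • w) a = 0 := by
    simp [hw, herm_smul_left, herm_sub_left, haa]
  have h1 := step b hb
  have h3 := step _ h1
  rw [hwa, zero_smul, sub_zero, smul_smul] at h3
  have h4 : w ∈ restPart hF h K := by
    have := neg_mem (add_mem h1 h3)
    rw [← add_smul, ← neg_smul] at this
    convert this using 1
    conv_lhs => rw [← one_smul F w]
    congr 1
    linear_combination hd - d * h2
  obtain ⟨r, s, hr, hs, rfl⟩ := exists_comb hF (k := d - 1) (fun hk => by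
    rw [hq] at hk
    exact one_ne_zero (α := F) (by linear_combination hk - hd + 2 * d * h2)) x
  have hfix : ∀ t : F, t ^ q = t → ∀ v ∈ restPart hF h K, t • v ∈ restPart hF h K := by
    intro t ht v hv
    rw [hq] at ht
    rcases mul_eq_zero.1 (show t * (t - 1) = 0 by linear_combination ht) with h0 | h0
    · rw [h0, zero_smul]; exact zero_mem _
    · rw [sub_eq_zero.1 h0, one_smul]; exact hv
  rw [add_smul, ← smul_smul]
  exact add_mem (hfix r hr _ h4) (hfix s hs _ h1)

/-- For `q = 2`, `n ≥ 5` the rest part is everything. -/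
theorem rest_mem_two (hF : Fintype.card F = q ^ 2) (h2 : (2 : F) = 0) (hq : q = 2) (hn : 5 ≤ n)
    (hu : IsRegNilp (nl u)) (hfr : Frame u e f) (huK : u ∈ K) (he : RS e ≤ K) (hf : RS f ≤ K)
    {a : Fin n → F} (ha : a ∈ restPart hF hfr.hyp K) (haa : hermForm n F q a a ≠ 0) :
    ∀ x ∈ rest q e f, x ∈ restPart hF hfr.hyp K := by
  have h := hfr.hyp
  have hone : ∀ v : Fin n → F, hermForm n F q v v ≠ 0 → hermForm n F q v v = 1 := fun v hv => by
    have h1 := herm_self_fixed v hF
    rw [hq] at h1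
    have h3 : hermForm n F q v v * (hermForm n F q v v - 1) = 0 := by rw [hq]; linear_combination h1
    exact sub_eq_zero.1 ((mul_eq_zero.1 h3).resolve_left hv)
  have haa1 := hone a haa
  have har := restPart_le hF h K ha
  obtain ⟨hae, haf⟩ := (mem_rest hF).1 har
  obtain ⟨a'', ha''⟩ : ∃ a'', a'' = proj q e f (u.1.1 *ᵥ a) := ⟨_, rfl⟩
  have ha''A : a'' ∈ restPart hF h K := ha'' ▸ mem_restPart_u hF h huK hfr.fix ha
  have huae : hermForm n F q (u.1.1 *ᵥ a) e = 0 := by rw [herm_mulVec_e hfr.fix, hae]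
  have haa'' : hermForm n F q a'' a'' = 1 := by rw [ha'', herm_proj hF h huae huae, SU_herm, haa1]
  -- `u = X L`
  obtain ⟨b, hb⟩ : ∃ b, b = proj q e f (nl u f) := ⟨_, rfl⟩
  have hbr : b ∈ rest q e f := hb ▸ proj_mem hF h _
  obtain ⟨hbe, hbf⟩ := (mem_rest hF).1 hbr
  set δ := hermForm n F q (u.1.1 *ᵥ f) f with hδ
  have huf : u.1.1 *ᵥ f = δ • e + f + b := by
    conv_lhs => rw [eq_proj (q := q) (e := e) (f := f) (u.1.1 *ᵥ f), herm_mulVec_e hfr.fix,
      h.symm' hF, one_smul, ← hδ]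
    rw [mulVec_eq_add u f, proj_add, proj_f hF h, zero_add, ← hb]
  have hδb : δ + δ ^ q + hermForm n F q b b = 0 := by
    have h1 := SU_herm u f f
    rw [huf, h.2.1] at h1
    simp only [herm_add_left, herm_add_right _ _ _ hF, herm_smul_left, herm_smul_right, h.1, h.2.1,
      h.2.2, h.symm' hF, hbe, hbf, herm_eq_zero_symm hF hbe, herm_eq_zero_symm hF hbf, mul_zero,
      mul_one, add_zero, zero_add] at h1
    linear_combination h1
  obtain ⟨X, hX⟩ := exists_SU_eich hF h.1 hbe hδb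
  have hXQ := mem_QS_of_eich hF h.1 hbe hX
  have hXf : X.1.1 *ᵥ f = u.1.1 *ᵥ f := by
    rw [eich_apply hX, h.symm' hF, herm_eq_zero_symm hF hbf, huf]
    simp
    abel
  obtain ⟨L, hL⟩ : ∃ L, L = X⁻¹ * u := ⟨_, rfl⟩
  have hLe : L.1.1 *ᵥ e = e := by rw [hL, SU_mul_mulVec, hfr.fix, inv_mulVec_of hXQ.1]
  have hLf : L.1.1 *ᵥ f = f := by rw [hL, SU_mul_mulVec, inv_mulVec_of hXf]
  have hLa : L.1.1 *ᵥ a = a'' := by
    obtain ⟨c, hc⟩ := (inv_mem hXQ).2 _ huae
    have hmem : L.1.1 *ᵥ a ∈ rest q e f := LS_rest hF ⟨hLe, hLf⟩ har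
    rw [← proj_of_mem hF hmem, hL, SU_mul_mulVec, hc, proj_add, proj_smul, proj_e hF h, smul_zero,
      add_zero, ha'']
  obtain ⟨d, hd, Z, hZK, hZ⟩ := exists_planeScale hF h2 hq h he hf ha haa1
  obtain ⟨Z', hZ'eq⟩ : ∃ Z', Z' = L * Z * L⁻¹ := ⟨_, rfl⟩
  have hZ' : IsPlaneScale q e f a'' d Z' := fun x => by
    have k : ∀ v, hermForm n F q (L⁻¹.1.1 *ᵥ x) v = hermForm n F q x (L.1.1 *ᵥ v) := fun v => by
      rw [← SU_herm L, SU_mulVec_inv]
    rw [hZ'eq, SU_mul_mulVec, SU_mul_mulVec, hZ, Matrix.mulVec_add, Matrix.mulVec_smul,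
      Matrix.mulVec_add, Matrix.mulVec_add, Matrix.mulVec_smul, Matrix.mulVec_smul,
      Matrix.mulVec_smul, SU_mulVec_inv, k, k, k, hLe, hLf, hLa]
  obtain ⟨hea'', hfa''⟩ := rest_swap_herm hF (restPart_le hF h K ha''A)
  have hζ : 1 + d ≠ 0 := by
    intro h0
    exact one_ne_zero (α := F) (by linear_combination hd - d * h0)
  have hZe : Z'.1.1 *ᵥ e = (1 + d) • e := by rw [hZ', h.2.2, h.1, hea'']; simp [add_smul]
  have hXZ : X * Z' * X⁻¹ = u * Z * u⁻¹ := by rw [hZ'eq, hL]; group
  -- the element of `K` in `QS e`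
  have hZ'K : Z' ∈ K := by
    obtain ⟨d', hd', W, hWK, hW⟩ := exists_planeScale hF h2 hq h he hf ha''A haa''
    rcases mul_eq_zero.1 (show (d' - d) * (d' + d + 1) = 0 by linear_combination hd' - hd) with h0 | h0
    · rw [show Z' = W from SU_ext fun x => by rw [hZ', hW, sub_eq_zero.1 h0]]
      exact hWK
    · have hsq : Z' = W * W := SU_ext fun x => by
        have e1 : hermForm n F q (W.1.1 *ᵥ x) e = (1 + d') * hermForm n F q x e := by
          rw [hW]
          simp [herm_add_left, herm_smul_left, h.1, h.symm' hF, herm_eq_zero_symm hF hea'']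
          ring
        have e2 : hermForm n F q (W.1.1 *ᵥ x) f = (1 + d') * hermForm n F q x f := by
          rw [hW]
          simp [herm_add_left, herm_smul_left, h.2.1, h.2.2, herm_eq_zero_symm hF hfa'']
          ring
        have e3 : hermForm n F q (W.1.1 *ᵥ x) a'' = (1 + d') * hermForm n F q x a'' := by
          rw [hW]
          simp [herm_add_left, herm_smul_left, hea'', hfa'', haa'']
          ring
        rw [SU_mul_mulVec, hW (W.1.1 *ᵥ x), e1, e2, e3, hW, hZ']
        ext i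
        simp
        linear_combination (hermForm n F q x f * e i + hermForm n F q x e * f i +
          hermForm n F q x a'' * a'' i) * (h0 - (1 + d') * h2 - hd' + h2)
      rw [hsq]
      exact mul_mem hWK hWK
  have hYK : X * Z' * X⁻¹ * Z'⁻¹ ∈ K := by
    rw [hXZ]
    exact mul_mem (mul_mem (mul_mem huK hZK) (inv_mem huK)) (inv_mem hZ'K)
  have hC : Z' * X⁻¹ * Z'⁻¹ ∈ QS e := NS_conj_QS ⟨1 + d, hζ, hZe⟩ (inv_mem hXQ)
  have hw : (d - 1) • (b - hermForm n F q b a'' • a'') ∈ restPart hF h K := by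
    have h1 : zp e f (X * (Z' * X⁻¹ * Z'⁻¹)) ∈ restPart hF h K :=
      ⟨_, ⟨by simpa [mul_assoc] using hYK, mul_mem hXQ hC⟩, rfl⟩
    have hZb : Z'.1.1 *ᵥ b = b + (d * hermForm n F q b a'') • a'' := by
      rw [hZ', hbe, hbf]; simp [smul_smul]
    rw [zp_mul hF h hXQ hC, zp_conj hF h hZe (inv_mem hXQ), zp_inv hF h hXQ,
      zp_of_eich hF h hbr hX, Matrix.mulVec_neg, hZb, ← neg_one_smul F (b + _), proj_smul,
      proj_of_mem hF (Submodule.add_mem _ hbr
        (Submodule.smul_mem _ _ (restPart_le hF h K ha''A)))] at h1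
    rw [show (1 + d) ^ q = d by rw [hq]; linear_combination hd] at h1
    convert neg_mem h1 using 1
    ext i
    simp
    linear_combination hermForm n F q b a'' * a'' i * (-hd + h2)
  let D : Submodule F (Fin n → F) :=
    { carrier := {v | ∀ x : F, x • v ∈ restPart hF h K}
      zero_mem' := fun x => by rw [smul_zero]; exact zero_mem _
      add_mem' := fun hv hw x => by rw [smul_add]; exact add_mem (hv x) (hw x)
      smul_mem' := fun c v hv x => by rw [smul_smul]; exact hv _ }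
  have hDA : ∀ v ∈ D, v ∈ restPart hF h K := fun v hv => by simpa using hv 1
  have hPb : b - hermForm n F q b a'' • a'' ∈ D := by
    intro x
    have hd1 : d - 1 ≠ 0 := fun h0 => one_ne_zero (α := F) (by
      linear_combination hd - (d + 2) * h0 - h2)
    have hwa : hermForm n F q ((d - 1) • (b - hermForm n F q b a'' • a'')) a'' = 0 := by
      simp [herm_smul_left, herm_sub_left, haa'']
    have := line_mem_two hF h2 hq h he hf ha''A haa'' hw (x / (d - 1))
    rwa [hwa, zero_smul, sub_zero, smul_smul, div_mul_cancel₀ _ hd1] at this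
  have hDP : ∀ c ∈ restPart hF h K, hermForm n F q c c = 1 → ∀ v ∈ restPart hF h K,
      v - hermForm n F q v c • c ∈ D := fun c hc hcc v hv x =>
    line_mem_two hF h2 hq h he hf hc hcc hv x
  obtain ⟨c, hcD, hcc⟩ : ∃ c ∈ D, hermForm n F q c c ≠ 0 := by
    by_contra hcon
    push Not at hcon
    obtain ⟨Y, hY⟩ : ∃ Y, Y = Submodule.span F {a} ⊔ D := ⟨_, rfl⟩
    have hAY : ∀ v ∈ restPart hF h K, v ∈ Y := fun v hv => by
      rw [hY, show v = hermForm n F q v a • a + (v - hermForm n F q v a • a) by abel]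
      exact Submodule.add_mem_sup (Submodule.smul_mem _ _ (Submodule.mem_span_singleton_self a))
        (hDP a ha haa1 v hv)
    have hDY : D ≤ Y := hY ▸ le_sup_right
    have hYr : Y ≤ rest q e f := by
      rw [hY]
      exact sup_le ((Submodule.span_singleton_le_iff_mem _ _).2 har)
        fun v hv => restPart_le hF h K (hDA v hv)
    have hYs : ∀ v ∈ Y, proj q e f (u.1.1 *ᵥ v) ∈ Y := by
      intro v hv
      rw [hY] at hv
      obtain ⟨y, hy, v', hv', rfl⟩ := Submodule.mem_sup.1 hv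
      obtain ⟨t, rfl⟩ := Submodule.mem_span_singleton.1 hy
      rw [Matrix.mulVec_add, Matrix.mulVec_smul, proj_add, proj_smul, ← ha'']
      refine Y.add_mem (Y.smul_mem _ (hAY _ ha''A)) (hDY fun x => ?_)
      rw [← proj_smul, ← Matrix.mulVec_smul]
      exact mem_restPart_u hF h huK hfr.fix (hv' x)
    have hbY : b ∈ Y := by
      rw [show b = hermForm n F q b a'' • a'' + (b - hermForm n F q b a'' • a'') by abel]
      exact Y.add_mem (Y.smul_mem _ (hAY _ ha''A)) (hDY hPb)
    have hall := stable_eq_rest hF hu hfr Y hYr hYs (hb ▸ hbY)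
    have hDD : ∀ v ∈ D, ∀ w ∈ D, hermForm n F q v w = 0 := by
      intro v hv w hw
      refine eq_zero_of_trace_mul_eq_zero hF fun t => ?_
      have h1 := hcon _ (D.add_mem (D.smul_mem t hv) hw)
      simp only [herm_add_left, herm_add_right _ _ _ hF, herm_smul_left, herm_smul_right,
        hcon v hv, hcon w hw, mul_zero, add_zero, zero_add, ← herm_conj v w hF] at h1
      rw [mul_pow]
      linear_combination h1
    have hle : D ⊔ Submodule.span F {e, f} ≤ perp q D := by
      refine sup_le (fun v hv w hw => hDD v hv w hw) (Submodule.span_le.2 ?_)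
      rintro v (rfl | rfl) w hw
      · exact (rest_swap_herm hF (restPart_le hF h K (hDA w hw))).1
      · exact (rest_swap_herm hF (restPart_le hF h K (hDA w hw))).2
    have hdisj : D ⊓ Submodule.span F {e, f} = ⊥ := by
      rw [Submodule.eq_bot_iff]
      rintro v ⟨hv1, hv2⟩
      obtain ⟨s, t, rfl⟩ := Submodule.mem_span_pair.1 hv2
      rw [← proj_of_mem hF (restPart_le hF h K (hDA _ hv1)), proj_plane hF h]
    have h1 := Submodule.finrank_mono hle
    have h3 := Submodule.finrank_sup_add_finrank_inf_eq D (Submodule.span F {e, f})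
    have h4 := finrank_perp hF D
    rw [hdisj, finrank_bot, (h.finrank_span hF).2] at h3
    have h5 := Submodule.finrank_mono hall
    have h6 := Submodule.finrank_add_le_finrank_add_finrank (Submodule.span F {a}) D
    rw [finrank_span_singleton (fun h0 : a = 0 => haa (by rw [h0, herm_zero_left]))] at h6
    have h7 := finrank_rest hF h
    rw [← hY] at h6
    omega
  have hcc1 := hone c hcc
  have hAD : ∀ v ∈ restPart hF h K, v ∈ D := fun v hv => by
    rw [show v = hermForm n F q v c • c + (v - hermForm n F q v c • c) by abel]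
    exact D.add_mem (D.smul_mem _ hcD) (hDP c (hDA c hcD) hcc1 v hv)
  have hbD : b ∈ D := by
    rw [show b = hermForm n F q b a'' • a'' + (b - hermForm n F q b a'' • a'') by abel]
    exact D.add_mem (D.smul_mem _ (hAD _ ha''A)) hPb
  intro x hx
  refine hDA x (stable_eq_rest hF hu hfr D (fun v hv => restPart_le hF h K (hDA v hv)) ?_ (hb ▸ hbD) hx)
  intro v hv
  exact hAD _ (mem_restPart_u hF h huK hfr.fix (hDA v hv))

/-- With the whole rest part and both root groups, `K` is everything. -/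
theorem eq_top_of_rest (hF : Fintype.card F = q ^ 2) (hn : 3 ≤ n) (h32 : ¬ (n = 3 ∧ q = 2))
    (h : Hyp q e f) (he : RS e ≤ K) (hf : RS f ≤ K)
    (hA : ∀ x ∈ rest q e f, x ∈ restPart hF h K) : K = ⊤ := by
  obtain ⟨θ, hθ0, hθ⟩ := exists_trace_zero_ne_zero hF
  have hQe : QS e ≤ K := fun X hX => by
    obtain ⟨d, -, hd⟩ := exists_param hF h hX
    exact eich_mem hF h he (hA _ (zp_mem hF h X)) hd
  have hQf : QS f ≤ K := fun X hX => by
    obtain ⟨B, hB⟩ := exists_SU_tv hF h.2.1 hθ
    obtain ⟨r, hr, hre, -, -⟩ := exists_rot_mem hF h he hθ0 hθ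
      (hf ((mem_RS_iff hF (h.swap hF)).2 ⟨_, hθ, hB⟩)) hB
    have h1 := inv_mulVec_of hre
    rw [Matrix.mulVec_smul] at h1
    have h2 : r⁻¹.1.1 *ᵥ f = θ⁻¹ • e := by rw [← h1, inv_smul_smul₀ hθ0]
    have h3 := QS_conj r⁻¹ hX
    rw [h2, QS_smul (inv_ne_zero hθ0), inv_inv] at h3
    rw [show X = r * (r⁻¹ * X * r) * r⁻¹ by group]
    exact mul_mem (mul_mem hr (hQe h3)) (inv_mem hr)
  have back : ∀ (X : SU n F q) (v : Fin n → F), X ∈ K → RS (X.1.1 *ᵥ v) ≤ K → RS v ≤ K :=
    fun X v hX hv Y hY => by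
      have h1 := hv (RS_conj X hY)
      rw [show Y = X⁻¹ * (X * Y * X⁻¹) * X by group]
      exact mul_mem (mul_mem (inv_mem hX) h1) hX
  have off : ∀ {e f : Fin n → F}, Hyp q e f → QS e ≤ K → RS f ≤ K → ∀ v : Fin n → F,
      hermForm n F q v v = 0 → hermForm n F q v e ≠ 0 → RS v ≤ K := by
    intro e f h hQ hf v hv hve
    obtain ⟨w, hw⟩ : ∃ w, w = (hermForm n F q v e)⁻¹ • v := ⟨_, rfl⟩
    have hwe : hermForm n F q w e = 1 := by rw [hw, herm_smul_left, inv_mul_cancel₀ hve]
    have hww : hermForm n F q w w = 0 := by rw [hw, herm_smul_left, herm_smul_right, hv, mul_zero, mul_zero]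
    rw [← RS_smul (e := v) (inv_ne_zero hve), ← hw]
    obtain ⟨b, hb⟩ : ∃ b, b = proj q e f w := ⟨_, rfl⟩
    have hbr : b ∈ rest q e f := hb ▸ proj_mem hF h w
    obtain ⟨hbe, hbf⟩ := (mem_rest hF).1 hbr
    set d := hermForm n F q w f with hd
    have hw' : w = d • e + f + b := by
      conv_lhs => rw [eq_proj (q := q) (e := e) (f := f) w, hwe, one_smul, ← hb, ← hd]
    have hdd : d + d ^ q + hermForm n F q b b = 0 := by
      have h1 := hww
      rw [hw'] at h1
      simp only [herm_add_left, herm_add_right _ _ _ hF, herm_smul_left, herm_smul_right, h.1,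
        h.2.1, h.2.2, h.symm' hF, hbe, hbf, herm_eq_zero_symm hF hbe, herm_eq_zero_symm hF hbf,
        mul_zero, mul_one, add_zero, zero_add] at h1
      linear_combination h1
    obtain ⟨E, hE⟩ := exists_SU_eich hF h.1 hbe hdd
    have hEK := hQ (mem_QS_of_eich hF h.1 hbe hE)
    have hEf : E.1.1 *ᵥ f = w := by
      rw [eich_apply hE, h.symm' hF, herm_eq_zero_symm hF hbf, hw']
      simp
      abel
    exact back E⁻¹ w (inv_mem hEK) (by rw [inv_mulVec_of hEf]; exact hf)
  have hall : ∀ v : Fin n → F, hermForm n F q v v = 0 → v ≠ 0 → RS v ≤ K := by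
    intro v hv hv0
    by_cases hve : hermForm n F q v e = 0
    swap
    · exact off h hQe hf v hv hve
    by_cases hvf : hermForm n F q v f = 0
    swap
    · exact off (h.swap hF) hQf he v hv hvf
    have hvr : v ∈ rest q e f := (mem_rest hF).2 ⟨hve, hvf⟩
    obtain ⟨b, hb, hvb⟩ : ∃ b ∈ rest q e f, hermForm n F q v b ≠ 0 := by
      by_contra hcon
      push Not at hcon
      exact hv0 (nondeg_rest hF h v hvr hcon)
    obtain ⟨hbe, hbf⟩ := (mem_rest hF).1 hb
    obtain ⟨d, hd⟩ := exists_eich_param hF b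
    obtain ⟨E, hE⟩ := exists_SU_eich hF h.2.1 hbf hd
    refine back E v (hQf (mem_QS_of_eich hF h.2.1 hbf hE)) (off h hQe hf _ (by rw [SU_herm, hv]) ?_)
    rw [eich_apply hE, hvf]
    simp [herm_neg_left, herm_add_left, herm_smul_left, hve, h.symm' hF, hvb]
  rw [eq_top_iff, ← suTransvections_closure hF hn h32, Subgroup.closure_le]
  rintro A ⟨v, c, hv, -, hA⟩
  rcases eq_or_ne v 0 with rfl | hv0
  · rw [show A = 1 from SU_ext fun x => by rw [tv_apply hA]; simp]
    exact one_mem K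
  · exact hall v hv hv0 fun x hx => tv_fix hA hx

end Cfsg.Agent.Lib.SU3Gen42
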