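import Mathlib
import Cfsg.Agent.Lib.SU3Gen42.Fill

/-!
Lib/SU3Gen42/Main: three conjugate regular unipotent elements generating `SU n`, `n` odd.
-/

set_option autoImplicit false
set_option linter.unusedSectionVars false
set_option linter.style.haveILetI false

namespace Cfsg.Agent.Lib.SU3Gen42

open Cfsg Matrix Module Cfsg.Agent.Lib.Unitary Cfsg.Agent.Lib.AutPSU Cfsg.Agent.Lib.MinIndexPSU
open Cfsg.Agent.Lib.RegularUnipotent
open Cfsg.Agent.Lib.DicksonId (trLow trUp)

variable {F : Type*} [Field F] [Fintype F] {q : ℕ} {n : ℕ} {e f : Fin n → F}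
  {K : Subgroup (SU n F q)} {u : SU n F q}

theorem two_eq_zero_of_q_two (hF : Fintype.card F = q ^ 2) (hq : q = 2) : (2 : F) = 0 := by
  obtain ⟨p, k, hp, hc, hk, hpk⟩ := q_eq_primePow hF
  have hp2 : p = 2 := by
    have h1 : p ∣ 2 := by rw [← hq, hpk]; exact dvd_pow_self p (by omega)
    exact (Nat.prime_dvd_prime_iff_eq hp Nat.prime_two).1 h1
  subst hp2
  exact_mod_cast CharP.cast_eq_zero F 2

theorem exists_aniso_pow (hF : Fintype.card F = q ^ 2) (hu : IsRegNilp (nl u)) {k : ℕ}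
    (hk : 2 * k < n) :
    ∃ x, hermForm n F q ((nl u ^ k) x) ((nl u ^ k) x) ≠ 0 := by
  have hd : finrank F (Fin n → F) = n := finrank_fin_fun F
  by_contra hcon
  push Not at hcon
  have hiso : ∀ y z, hermForm n F q ((nl u ^ k) y) ((nl u ^ k) z) = 0 := fun y z =>
    eq_zero_of_trace_mul_eq_zero hF fun c => by
      have h1 := hcon (c • y + z)
      simp only [map_add, map_smul, herm_add_left, herm_add_right _ _ _ hF, herm_smul_left,
        herm_smul_right, hcon, mul_zero, add_zero, zero_add,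
        ← herm_conj ((nl u ^ k) y) ((nl u ^ k) z) hF] at h1
      rw [mul_pow]
      linear_combination h1
  have hle : LinearMap.range (nl u ^ k) ≤ perp q (LinearMap.range (nl u ^ k)) := by
    rintro _ ⟨y, rfl⟩ _ ⟨z, rfl⟩
    exact hiso y z
  have h1 := finrank_range_pow hu (k := k) (by omega)
  have h2 := Submodule.finrank_mono hle
  have h3 := finrank_perp hF (LinearMap.range (nl u ^ k))
  rw [hd] at h1
  omega

/-- A vector with a prescribed norm in the image of a power. -/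
theorem exists_norm_pow (hF : Fintype.card F = q ^ 2) (hu : IsRegNilp (nl u)) {k : ℕ}
    (hk : 2 * k < n) {c : F} (hc : c ^ q = c) :
    ∃ x, hermForm n F q ((nl u ^ k) x) ((nl u ^ k) x) = c := by
  obtain ⟨x, hx⟩ := exists_aniso_pow hF hu hk
  obtain ⟨t, ht⟩ := norm_surj hF (y := c / hermForm n F q ((nl u ^ k) x) ((nl u ^ k) x)) (by
    rw [div_pow, hc, herm_self_fixed _ hF])
  refine ⟨t • x, ?_⟩
  rw [map_smul, herm_smul_left, herm_smul_right, ← mul_assoc, ht, div_mul_cancel₀ _ hx]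

/-- The square of an element of `QS e` in characteristic two. -/
theorem tv_of_sq (hF : Fintype.card F = q ^ 2) (h2 : (2 : F) = 0) (h : Hyp q e f) {Y : SU n F q}
    (hY : Y ∈ QS e) :
    IsTvAt e (hermForm n F q (zp e f Y) (zp e f Y)) (suToGU n F q (Y * Y)) := by
  obtain ⟨d, -, hA⟩ := exists_param hF h hY
  have hz := ((mem_rest hF).1 (zp_mem hF h Y)).1
  have h1 := hA.mul hF hA h.1 hz hz
  rw [← map_mul, ← two_smul F (zp e f Y), h2, zero_smul] at h1
  have h3 : d + d - hermForm n F q (zp e f Y) (zp e f Y) =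
      hermForm n F q (zp e f Y) (zp e f Y) := by
    linear_combination (d - hermForm n F q (zp e f Y) (zp e f Y)) * h2
  rw [h3] at h1
  exact h1.tv hF

/-- What the second generator provides: a transvection, and, if wanted, a rest parameter. -/
theorem exists_second_E (hF : Fintype.card F = q ^ 2) (h2 : (2 : F) = 0) (hfr : Frame u e f)
    (w : Fin n → F) :
    ∃ g : SU n F q, ∀ K : Subgroup (SU n F q), u ∈ K → g * u * g⁻¹ ∈ K →
      proj q e f (nl u (nl u w)) ∈ restPart hF hfr.hyp K ∧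
      (∃ X ∈ K, IsTvAt e (hermForm n F q (nl u (nl u w)) (nl u (nl u w))) (suToGU n F q X)) ∧
      (∃ X ∈ K, IsTvAt e (hermForm n F q (nl u (nl u (nl u w))) (nl u (nl u (nl u w))))
        (suToGU n F q X)) := by
  have h := hfr.hyp
  obtain ⟨g, Y, hY, hz, hg⟩ := hfr.exists_conj_QS hF w
  refine ⟨g, fun K hu hgu => ?_⟩
  have hYK : Y ∈ K := by
    rw [hg] at hgu
    have := K.mul_mem (K.inv_mem hu) hgu
    rwa [inv_mul_cancel_left] at this
  have hNe : ∀ v, hermForm n F q (nl u v) e = 0 := fun v => (hfr.range _).2 ⟨v, rfl⟩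
  set z := nl u (nl u w) with hzdef
  have huY : u * Y * u⁻¹ ∈ QS e := NS_conj_QS (PS_le_NS e hfr.fix) hY
  have hX : zp e f (Y * (u * Y * u⁻¹)) = proj q e f (nl u z) := by
    rw [zp_mul hF h hY huY, zp_conj hF h (ζ := 1) (by rw [one_smul]; exact hfr.fix) hY, hz,
      one_pow, one_smul]
    have h1 : proj q e f z = z - hermForm n F q z f • e := by
      rw [proj, hNe, zero_smul, sub_zero]
    have h3 : proj q e f (u.1.1 *ᵥ proj q e f z) = proj q e f (u.1.1 *ᵥ z) := by
      rw [h1, Matrix.mulVec_sub, Matrix.mulVec_smul, hfr.fix, sub_eq_add_neg, proj_add, ← neg_smul,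
        proj_smul, proj_e hF h, smul_zero, add_zero]
    rw [h3, ← proj_add, mulVec_eq_add, ← add_assoc, ← two_smul F z, h2, zero_smul, zero_add]
  refine ⟨⟨Y, ⟨hYK, hY⟩, hz⟩, ⟨Y * Y, mul_mem hYK hYK, ?_⟩, ⟨_, mul_mem
    (mul_mem hYK (mul_mem (mul_mem hu hYK) (inv_mem hu)))
    (mul_mem hYK (mul_mem (mul_mem hu hYK) (inv_mem hu))), ?_⟩⟩
  · have := tv_of_sq hF h2 h hY
    rwa [hz, herm_proj hF h (hNe _) (hNe _)] at this
  · have := tv_of_sq hF h2 h (mul_mem hY huY)
    rwa [hX, herm_proj hF h (hNe _) (hNe _)] at this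

/-- In small dimension the power `u ^ (n - 1)` is a transvection at `e`. -/
theorem exists_power_tv (hF : Fintype.card F = q ^ 2) (h2 : (2 : F) = 0) (hfr : Frame u e f)
    (hn : n = 3 ∨ n = 5) :
    ∃ c : F, c ≠ 0 ∧ c + c ^ q = 0 ∧ IsTvAt e c (suToGU n F q (u ^ (n - 1))) := by
  have hsq : ∀ x, (u * u).1.1 *ᵥ x = x + nl u (nl u x) := by
    intro x
    rw [SU_mul_mulVec, mulVec_eq_add u x, mulVec_eq_add u (x + nl u x), map_add]
    calc x + nl u x + (nl u x + nl u (nl u x)) = x + (2 : F) • nl u x + nl u (nl u x) := by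
          rw [two_smul]; abel
      _ = _ := by rw [h2, zero_smul, add_zero]
  have hpow : ∀ x, (u ^ (n - 1)).1.1 *ᵥ x = x + (nl u ^ (n - 1)) x := by
    intro x
    rcases hn with rfl | rfl
    · rw [show u ^ (3 - 1) = u * u from pow_two u, hsq]
      simp [pow_two]
    · rw [show u ^ (5 - 1) = (u * u) * (u * u) by
        show u ^ 4 = _; simp [pow_succ, mul_assoc], SU_mul_mulVec, hsq, hsq, map_add, map_add]
      show _ = x + (nl u ^ 4) x
      simp only [show nl u ^ 4 = nl u * nl u * nl u * nl u by simp [pow_succ, mul_assoc],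
        Module.End.mul_apply]
      calc x + nl u (nl u x) + (nl u (nl u x) + nl u (nl u (nl u (nl u x))))
          = x + (2 : F) • nl u (nl u x) + nl u (nl u (nl u (nl u x))) := by rw [two_smul]; abel
        _ = _ := by rw [h2, zero_smul, add_zero]
  have hR : u ^ (n - 1) ∈ RS e := by
    intro x hx
    obtain ⟨y, rfl⟩ := (hfr.range x).1 hx
    rw [hpow, ← pow_succ_apply, Nat.sub_add_cancel (by omega), hfr.top, LinearMap.zero_apply, add_zero]
  obtain ⟨hc, hcT⟩ := exists_tc hF hfr.hyp hR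
  refine ⟨_, fun h0 => hfr.cyc ?_, hc, hcT⟩
  have h1 := tv_apply hcT f
  rw [hpow, h0, zero_mul, zero_smul] at h1
  exact add_left_cancel h1

/-- A conjugate of `u` giving, with `u`, a transvection of given parameter. -/
theorem exists_second_tv (hF : Fintype.card F = q ^ 2) (hn : 3 ≤ n) (hfr : Frame u e f) {c : F}
    (hc : c + c ^ q = 0) :
    ∃ g : SU n F q, ∀ K : Subgroup (SU n F q), u ∈ K → g * u * g⁻¹ ∈ K →
      ∃ X ∈ K, IsTvAt e c (suToGU n F q X) := by
  obtain ⟨T, hT⟩ := exists_SU_tv hF hfr.hyp.1 hc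
  obtain ⟨g, hg⟩ := hfr.exists_conj_tv hF hn ((mem_RS_iff hF hfr.hyp).2 ⟨c, hc, hT⟩)
  refine ⟨g, fun K hu hgu => ⟨T, ?_, hT⟩⟩
  rw [hg] at hgu
  have := K.mul_mem (K.inv_mem hu) hgu
  rwa [inv_mul_cancel_left] at this

/-- The second generator in even characteristic, `q ≥ 4`. -/
theorem exists_second_even (hF : Fintype.card F = q ^ 2) (h2 : (2 : F) = 0) (hq : 3 ≤ q)
    (hn : 3 ≤ n) (hodd : Odd n) (hu : IsRegNilp (nl u)) (hfr : Frame u e f) {c1 : F}
    (h1 : c1 ≠ 0) (h1q : c1 ^ q = c1) :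
    ∃ g : SU n F q, ∀ K : Subgroup (SU n F q), u ∈ K → g * u * g⁻¹ ∈ K →
      (∃ X ∈ K, IsTvAt e c1 (suToGU n F q X)) ∧
        ∃ c2 : F, c2 ≠ 0 ∧ c2 ≠ c1 ∧ c2 + c2 ^ q = 0 ∧
          ∃ X ∈ K, IsTvAt e c2 (suToGU n F q X) := by
  have htr : ∀ c : F, c ^ q = c → c + c ^ q = 0 := fun c hc => by
    rw [hc]; linear_combination c * h2
  obtain ⟨κ, hκq, hκ0, hκ1⟩ := exists_fixed_ne hF hq 0 c1
  obtain ⟨m, hm⟩ := hodd
  by_cases hsmall : n = 3 ∨ n = 5
  · obtain ⟨γ, hγ0, hγ, hγT⟩ := exists_power_tv hF h2 hfr hsmall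
    by_cases hγ1 : γ = c1
    · obtain ⟨g, hg⟩ := exists_second_tv hF hn hfr (htr κ hκq)
      exact ⟨g, fun K huK hgu => ⟨⟨_, K.pow_mem huK _, hγ1 ▸ hγT⟩, κ, hκ0, hκ1, htr κ hκq,
        hg K huK hgu⟩⟩
    · obtain ⟨g, hg⟩ := exists_second_tv hF hn hfr (htr c1 h1q)
      exact ⟨g, fun K huK hgu => ⟨hg K huK hgu, γ, hγ0, hγ1, hγ, _, K.pow_mem huK _, hγT⟩⟩
  · have hm3 : 3 ≤ m := by omega
    obtain ⟨x, hx⟩ := exists_norm_pow hF hu (k := m) (by omega) h1q
    obtain ⟨w0, hw0⟩ : ∃ w0, w0 = (nl u ^ m) x := ⟨_, rfl⟩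
    obtain ⟨z0, hz0⟩ : ∃ z0, z0 = (nl u ^ (m - 1)) x := ⟨_, rfl⟩
    rw [← hw0] at hx
    obtain ⟨k, hk⟩ : ∃ k, k = hermForm n F q z0 w0 / c1 := ⟨_, rfl⟩
    have hzw : hermForm n F q z0 w0 = k * c1 := by rw [hk, div_mul_cancel₀ _ h1]
    obtain ⟨t, ht⟩ := norm_surj hF
      (y := (κ - (hermForm n F q z0 z0 - k * k ^ q * c1)) / c1) (by
        rw [div_pow, sub_pow_q hF, sub_pow_q hF, mul_pow, mul_pow, pow_q_q hF, hκq,
          herm_self_fixed z0 hF, h1q]
        ring)
    rw [eq_div_iff h1] at ht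
    obtain ⟨s, hs⟩ : ∃ s, s = t - k := ⟨_, rfl⟩
    set w := (nl u ^ (m - 3)) x + s • (nl u ^ (m - 2)) x with hw
    have hz : nl u (nl u w) = z0 + s • w0 := by
      rw [hw, map_add, map_add, map_smul, map_smul, ← pow_succ_apply', ← pow_succ_apply',
        ← pow_succ_apply', ← pow_succ_apply', show m - 3 + 1 + 1 = m - 1 by omega,
        show m - 2 + 1 + 1 = m by omega, hz0, hw0]
    have hQ1 : hermForm n F q (nl u (nl u w)) (nl u (nl u w)) = κ := by
      rw [hz]
      simp only [herm_add_left, herm_add_right _ _ _ hF, herm_smul_left, herm_smul_right, hx,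
        ← herm_conj z0 w0 hF, hzw, mul_pow, h1q, hs, sub_pow_q hF]
      linear_combination ht
    have hN0 : nl u z0 = w0 := by
      rw [hz0, hw0, ← pow_succ_apply', Nat.sub_add_cancel (by omega : 1 ≤ m)]
    have horth : ∀ y, hermForm n F q ((nl u ^ m) y) (nl u w0) = 0 := by
      intro y
      refine herm_pow_eq_zero hF u m y _ ?_
      rw [hw0, ← pow_succ_apply, ← Module.End.mul_apply, ← pow_add, show m + 1 + m = n by omega,
        hfr.top, LinearMap.zero_apply]
    have hQ2 : hermForm n F q (nl u (nl u (nl u w))) (nl u (nl u (nl u w))) = c1 := by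
      have o1 : hermForm n F q w0 (nl u w0) = 0 := by
        conv_lhs => arg 4; rw [hw0]
        exact horth x
      have o2 : hermForm n F q (nl u w0) (nl u w0) = 0 := by
        conv_lhs => arg 4; rw [hw0, ← pow_succ_apply', pow_succ_apply]
        exact horth _
      rw [hz, map_add, map_smul, hN0]
      simp only [herm_add_left, herm_add_right _ _ _ hF, herm_smul_left, herm_smul_right, hx, o1,
        o2, herm_eq_zero_symm hF o1, mul_zero, add_zero]
    obtain ⟨g, hg⟩ := exists_second_E hF h2 hfr w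
    refine ⟨g, fun K huK hgu => ?_⟩
    obtain ⟨-, hA, hB⟩ := hg K huK hgu
    rw [hQ1] at hA
    rw [hQ2] at hB
    exact ⟨hB, κ, hκ0, hκ1, htr κ hκq, hA⟩

/-- **Generation by three conjugates.** -/
theorem exists_three (hF : Fintype.card F = q ^ 2) (hn : 3 ≤ n) (hodd : Odd n)
    (h32 : ¬ (n = 3 ∧ q = 2)) :
    ∃ u g h : SU n F q, IsNilpotent (u.1.1 - 1) ∧ (u.1.1 - 1) ^ (n - 1) ≠ 0 ∧
      Subgroup.closure ({u, g * u * g⁻¹, h * u * h⁻¹} : Set (SU n F q)) = ⊤ := by
  classical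
  obtain ⟨u, hu, hnil, hreg⟩ := exists_regular hF (n := n) (by omega)
  obtain ⟨e, f, hfr, hreal⟩ := exists_frame hF hn hu
  have h := hfr.hyp
  obtain ⟨β, hβ⟩ : ∃ β, β = hermForm n F q f (u.1.1 *ᵥ f) := ⟨_, rfl⟩
  rw [← hβ] at hreal
  have hβ0 : β ≠ 0 := by
    intro h0
    apply hfr.aniso
    have h1 := SU_herm u f f
    rw [mulVec_eq_add] at h1
    have h3 : hermForm n F q f (nl u f) = 0 := by
      rw [← h0, hβ, mulVec_eq_add, herm_add_right _ _ _ hF, h.2.1, zero_add]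
    simp only [herm_add_left, herm_add_right _ _ _ hF, h.2.1, h3, herm_eq_zero_symm hF h3,
      zero_add, add_zero] at h1
    exact h1
  -- the third generator
  have hpair : Hyp q f ((β ^ q)⁻¹ • (u.1.1 *ᵥ f)) := by
    refine ⟨h.2.1, ?_, ?_⟩
    · rw [herm_smul_left, herm_smul_right, SU_herm, h.2.1, mul_zero, mul_zero]
    · rw [herm_smul_right, ← hβ, inv_pow, pow_q_q hF, inv_mul_cancel₀ hβ0]
  obtain ⟨g0, hdet, hg1, hg2⟩ := exists_SU_hyp hF hn hpair h
  obtain ⟨g, hg⟩ := exists_SU_of_GU hdet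
  have hge : g.1.1 *ᵥ f = e := by rw [hg]; exact hg1
  have hgf : g.1.1 *ᵥ (u.1.1 *ᵥ f) = β ^ q • f := by
    have : g.1.1 *ᵥ ((β ^ q)⁻¹ • (u.1.1 *ᵥ f)) = f := by rw [hg]; exact hg2
    rw [Matrix.mulVec_smul, inv_smul_eq_iff₀ (pow_ne_zero q hβ0)] at this
    exact this
  obtain ⟨w, hw⟩ : ∃ w, w = g * u * g⁻¹ := ⟨_, rfl⟩
  have hwe : w.1.1 *ᵥ e = β ^ q • f := by
    rw [hw, SU_mul_mulVec, SU_mul_mulVec, inv_mulVec_of hge, hgf]
  have hmove : ∀ (K : Subgroup (SU n F q)), w ∈ K → ∀ c : F,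
      (∃ X ∈ K, IsTvAt e c (suToGU n F q X)) →
        ∃ X ∈ K, IsTvAt f (c * (β * β ^ q)) (suToGU n F q X) := by
    rintro K hwK c ⟨X, hX, hXc⟩
    refine ⟨w * X * w⁻¹, mul_mem (mul_mem hwK hX) (inv_mem hwK), fun x => ?_⟩
    have h1 := hXc.conj (suToGU n F q w) x
    rw [suToGU_val, hwe, ← map_inv, ← map_mul, ← map_mul] at h1
    rw [h1, herm_smul_right, pow_q_q hF, smul_smul]
    congr 2
    ring
  have hnorm : (β * β ^ q) ^ q = β * β ^ q := by rw [mul_pow, pow_q_q hF, mul_comm]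
  -- everything follows from the root group at `e`
  suffices key : ∃ g2 : SU n F q, ∀ K : Subgroup (SU n F q), u ∈ K → g2 * u * g2⁻¹ ∈ K → w ∈ K →
      RS e ≤ K ∧ (q = 2 → ∃ a ∈ restPart hF h K, hermForm n F q a a ≠ 0) by
    obtain ⟨g2, hg2K⟩ := key
    refine ⟨u, g2, g, ⟨n, hnil⟩, hreg, ?_⟩
    set K := Subgroup.closure ({u, g2 * u * g2⁻¹, g * u * g⁻¹} : Set (SU n F q))
    have huK : u ∈ K := Subgroup.subset_closure (Or.inl rfl)
    have hwK : w ∈ K := Subgroup.subset_closure (Or.inr (Or.inr hw))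
    obtain ⟨he, ha⟩ := hg2K K huK (Subgroup.subset_closure (Or.inr (Or.inl rfl))) hwK
    obtain ⟨θ, hθ0, hθ⟩ := exists_trace_zero_ne_zero hF
    obtain ⟨T, hT⟩ := exists_SU_tv hF h.1 hθ
    obtain ⟨B, hB, hBT⟩ := hmove K hwK θ ⟨T, he ((mem_RS_iff hF h).2 ⟨θ, hθ, hT⟩), hT⟩
    have hθ' : θ * (β * β ^ q) + (θ * (β * β ^ q)) ^ q = 0 := by
      rw [mul_pow θ, hnorm]
      linear_combination (β * β ^ q) * hθ
    have hf := RS_swap_le hF h he
      (mul_ne_zero hθ0 (mul_ne_zero hβ0 (pow_ne_zero q hβ0))) hθ' hB hBT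
    refine eq_top_of_rest hF hn h32 h he hf ?_
    rcases Nat.lt_or_ge q 3 with hq | hq
    · have hq2 : q = 2 := by have := one_lt_q hF; omega
      obtain ⟨a, haA, haa⟩ := ha hq2
      have hn5 : 5 ≤ n := by
        obtain ⟨m, hm⟩ := hodd
        by_contra hlt
        exact h32 ⟨by omega, hq2⟩
      exact rest_mem_two hF (two_eq_zero_of_q_two hF hq2) hq2 hn5 hu hfr huK he hf haA haa
    · exact rest_mem_three hF hq hu hfr huK he hf
  rcases Nat.lt_or_ge q 3 with hq | hq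
  · -- `q = 2`
    have hq2 : q = 2 := by have := one_lt_q hF; omega
    have h2 := two_eq_zero_of_q_two hF hq2
    have hn5 : 5 ≤ n := by
      obtain ⟨m, hm⟩ := hodd
      by_contra hlt
      exact h32 ⟨by omega, hq2⟩
    obtain ⟨x, hx⟩ := exists_norm_pow hF hu (k := 2) (by omega) (c := 1) (one_pow q)
    have hxx : (nl u ^ 2) x = nl u (nl u x) := by rw [pow_two]; rfl
    rw [hxx] at hx
    obtain ⟨g2, hg2⟩ := exists_second_E hF h2 hfr x
    refine ⟨g2, fun K huK hgu _ => ?_⟩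
    obtain ⟨hA, ⟨X, hXK, hXT⟩, -⟩ := hg2 K huK hgu
    rw [hx] at hXT
    refine ⟨fun Y hY => ?_, fun _ => ⟨_, hA, ?_⟩⟩
    · obtain ⟨c, hc, hcT⟩ := (mem_RS_iff hF h).1 hY
      rw [hq2] at hc
      rcases mul_eq_zero.1 (show c * (c - 1) = 0 by linear_combination hc - c * h2) with h0 | h0
      · rw [show Y = 1 from SU_ext fun x => by rw [tv_apply hcT, h0]; simp]
        exact one_mem K
      · rw [show Y = X from suToGU_injective ((sub_eq_zero.1 h0 ▸ hcT).unique hXT)]
        exact hXK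
    · have hNe : hermForm n F q (nl u (nl u x)) e = 0 := (hfr.range _).2 ⟨_, rfl⟩
      rw [herm_proj hF h hNe hNe, hx]
      exact one_ne_zero
  have hq2 : q ≠ 2 := by omega
  obtain ⟨lam, hlam0, hord, hall⟩ := exists_gen_fixF hF
  have hlamq : (lam : F) ^ q = lam := lam.2
  have hlam0' : (lam : F) ≠ 0 := fun h0 => hlam0 (Subtype.ext h0)
  by_cases h2 : (2 : F) = 0
  · -- even `q`
    obtain ⟨p, k, hp, hchar, hk, hpk⟩ := q_eq_primePow hF
    have hp2 : p = 2 := by
      by_contra hne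
      have h1 : (p : F) = 0 := CharP.cast_eq_zero F p
      have h3 : ((2 : ℕ) : F) = 0 := by exact_mod_cast h2
      rw [CharP.cast_eq_zero_iff F p] at h3
      exact hne ((Nat.prime_dvd_prime_iff_eq hp Nat.prime_two).1 h3)
    subst hp2
    haveI := Fact.mk hp
    obtain ⟨c1, hc1⟩ : ∃ c1 : F, c1 ^ 2 = (lam : F) / (β * β ^ q) := by
      obtain ⟨c1, hc1⟩ := (PerfectRing.bijective_frobenius (R := F) (p := 2)).2
        ((lam : F) / (β * β ^ q))
      exact ⟨c1, hc1⟩
    have hc10 : c1 ≠ 0 := fun h0 => by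
      rw [h0, zero_pow two_ne_zero, eq_comm, div_eq_zero_iff] at hc1
      rcases hc1 with h1 | h1
      · exact hlam0' h1
      · exact mul_ne_zero hβ0 (pow_ne_zero q hβ0) h1
    have hc1q : c1 ^ q = c1 := by
      have h1 : (c1 ^ q - c1) ^ 2 = 0 := by
        have h3 : (c1 ^ q) ^ 2 = c1 ^ 2 := by
          rw [← pow_mul, mul_comm, pow_mul, hc1, div_pow, hlamq, hnorm]
        linear_combination h3 + (c1 ^ 2 - c1 ^ q * c1) * h2
      exact sub_eq_zero.1 (pow_eq_zero_iff two_ne_zero |>.1 h1)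
    obtain ⟨g2, hg2⟩ := exists_second_even hF h2 hq hn hodd hu hfr hc10 hc1q
    refine ⟨g2, fun K huK hgu hwK => ⟨?_, fun h0 => absurd h0 hq2⟩⟩
    obtain ⟨hT1, c2, hc20, hc21, hc2, hT2⟩ := hg2 K huK hgu
    have hθ0 : c1 * (β * β ^ q) ≠ 0 := mul_ne_zero hc10 (mul_ne_zero hβ0 (pow_ne_zero q hβ0))
    have hθ : c1 * (β * β ^ q) + (c1 * (β * β ^ q)) ^ q = 0 := by
      rw [mul_pow, hnorm, hc1q]; linear_combination (c1 * (β * β ^ q)) * h2
    have hc2q : c2 ^ q = c2 := by linear_combination hc2 - c2 * h2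
    have hmu : (c2 / c1) ^ q = c2 / c1 := by rw [div_pow, hc1q, hc2q]
    have hlam : (lam : F) / (c1 * (β * β ^ q)) = c1 := by
      rw [div_eq_iff hθ0, ← mul_assoc, ← pow_two, hc1,
        div_mul_cancel₀ _ (mul_ne_zero hβ0 (pow_ne_zero q hβ0))]
    refine RS_le_of_gen hF h hθ0 hθ (hmove K hwK c1 hT1) {lam, lam * ⟨c2 / c1, hmu⟩} ?_ ?_
    · rintro a (rfl | rfl)
      · rw [hlam]; exact hT1
      · rw [Subfield.coe_mul, mul_div_right_comm, hlam]
        show ∃ X ∈ K, IsTvAt e (c1 * (c2 / c1)) _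
        rw [mul_div_cancel₀ _ hc10]
        exact hT2
    · rw [Set.image_pair]
      exact closure_tr_even (Subtype.ext (show ((2 : fixF hF) : F) = 0 from (map_ofNat (fixF hF).subtype 2).trans h2)) hlam0
        (fun h0 => div_ne_zero hc20 hc10 (congrArg Subtype.val h0))
        (fun h0 => hc21 ((div_eq_one_iff_eq hc10).1 (congrArg Subtype.val h0))) hall
  · -- odd `q`
    have hβq := hreal h2
    obtain ⟨c, hc⟩ : IsSquare ((lam : F) / (β * β ^ q)) := by
      have ha0 : (lam : F) / (β * β ^ q) ≠ 0 :=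
        div_ne_zero hlam0' (mul_ne_zero hβ0 (pow_ne_zero q hβ0))
      have hchar : ringChar F ≠ 2 := fun hc => h2 (by
        have := ringChar.Nat.cast_ringChar (R := F)
        rw [hc] at this
        exact_mod_cast this)
      rw [FiniteField.isSquare_iff hchar ha0, hF]
      have ha : ((lam : F) / (β * β ^ q)) ^ (q - 1) = 1 := by
        apply mul_right_cancel₀ ha0
        rw [← pow_succ, Nat.sub_add_cancel (by omega), one_mul, div_pow, hlamq, hnorm]
      obtain ⟨p, k, hp, hchar', hk, hpk⟩ := q_eq_primePow hF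
      obtain ⟨m, hm⟩ : Odd q := by
        rw [hpk]
        refine (hp.odd_of_ne_two ?_).pow
        rintro rfl
        exact h2 (by exact_mod_cast CharP.cast_eq_zero F 2)
      have he : q ^ 2 / 2 = (q - 1) * (m + 1) := by
        rw [hm, show 2 * m + 1 - 1 = 2 * m by omega,
          show (2 * m + 1) ^ 2 = 1 + 2 * (2 * m * (m + 1)) by ring,
          Nat.add_mul_div_left _ _ two_pos]
        norm_num
      rw [he, pow_mul, ha, one_pow]
    have hc0 : c ≠ 0 := fun h0 => by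
      rw [h0, mul_zero, div_eq_zero_iff] at hc
      rcases hc with h1 | h1
      · exact hlam0' h1
      · exact mul_ne_zero hβ0 (pow_ne_zero q hβ0) h1
    have hlam : (lam : F) = c * c * (β * β) := by
      rw [← hc, hβq, div_mul_cancel₀ _ (mul_ne_zero hβ0 hβ0)]
    have hcq : c + c ^ q = 0 := by
      have h1 : (c ^ q - c) * (c ^ q + c) = 0 := by
        have h3 : (c * c) ^ q = c * c := by rw [← hc, div_pow, hlamq, hnorm]
        rw [mul_pow] at h3
        linear_combination h3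
      rcases mul_eq_zero.1 h1 with h0 | h0
      · exfalso
        have hfix : (c * β) ^ q = c * β := by rw [mul_pow, sub_eq_zero.1 h0, hβq]
        have hsq : lam = (⟨c * β, hfix⟩ : fixF hF) * ⟨c * β, hfix⟩ :=
          Subtype.ext (by rw [hlam]; push_cast; ring)
        obtain ⟨i, hi⟩ := hall ⟨c * β, hfix⟩ (fun h1 => by
          exact mul_ne_zero hc0 hβ0 (congrArg Subtype.val h1))
        rw [← hi, ← pow_add] at hsq
        have h4 : orderOf lam ∣ i + i - 1 := by
          rcases Nat.eq_zero_or_pos i with h5 | h5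
          · subst h5; exact dvd_zero _
          refine orderOf_dvd_of_pow_eq_one (mul_right_cancel₀ hlam0 ?_)
          rw [← pow_succ, Nat.sub_add_cancel (by omega), one_mul, ← hsq]
        rw [hord] at h4
        rcases Nat.eq_zero_or_pos i with h5 | h5
        · subst h5
          rw [Nat.add_zero, pow_zero] at hsq
          rw [hsq, orderOf_one] at hord
          omega
        · obtain ⟨p, k, hp, hchar', hk, hpk⟩ := q_eq_primePow hF
          obtain ⟨m, hm⟩ : Odd q := by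
            rw [hpk]
            refine (hp.odd_of_ne_two ?_).pow
            rintro rfl
            exact h2 (by exact_mod_cast CharP.cast_eq_zero F 2)
          have h6 : 2 ∣ i + i - 1 := dvd_trans ⟨m, by omega⟩ h4
          omega
      · linear_combination h0
    obtain ⟨g2, hg2⟩ := exists_second_tv hF hn hfr hcq
    refine ⟨g2, fun K huK hgu hwK => ⟨?_, fun h0 => absurd h0 hq2⟩⟩
    have hT := hg2 K huK hgu
    have hθ0 : c * (β * β ^ q) ≠ 0 := mul_ne_zero hc0 (mul_ne_zero hβ0 (pow_ne_zero q hβ0))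
    have hθ : c * (β * β ^ q) + (c * (β * β ^ q)) ^ q = 0 := by
      rw [mul_pow c, hnorm]; linear_combination (β * β ^ q) * hcq
    refine RS_le_of_gen hF h hθ0 hθ (hmove K hwK c hT) {lam} ?_ ?_
    · rintro a rfl
      rw [show (a : F) / (c * (β * β ^ q)) = c by
        rw [div_eq_iff hθ0, hlam, hβq]; ring]
      exact hT
    · rw [Set.image_singleton]
      exact closure_tr_odd (fun h0 => h2 (congrArg Subtype.val h0)) hlam0
        (by rw [hord, ← Nat.card_eq_fintype_card, card_fixF hF]) hall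

end Cfsg.Agent.Lib.SU3Gen42
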